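import Cfsg.Agent.EqLemmas
import Mathlib

/-!
# Element orders of `PSL₂(q)` with one composite number

`OneComp S` : `S` has at most one composite member.
* `odd_case` : `q` odd and `2 p` an order
* `even_case` : `q` a power of two
* `mersenne_case` : `q` a prime `2^k ± 1`
-/

set_option autoImplicit false

namespace Cfsg.Agent.OneEvenOrder

/-- At most one composite number satisfies `S`. -/
def OneComp (S : ℕ → Prop) : Prop :=
  ∀ a b, S a → S b → 1 < a → ¬ a.Prime → 1 < b → ¬ b.Prime → a = b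

/-- Element orders of `PSL₂(q)`, `q = 2 a + 1` a power of `l`. -/
def OddOrders (l a m : ℕ) : Prop := m ∣ l ∨ m ∣ a ∨ m ∣ a + 1

theorem odd_case {l f p a : ℕ} (hl : l.Prime) (hq : 2 * a + 1 = l ^ f) (h5 : 2 ≤ a) (hp : p.Prime)
    (hp2 : p ≠ 2) (h1 : OneComp (OddOrders l a)) (hS : OddOrders l a (2 * p)) :
    2 * a + 1 = 11 ∨ 2 * a + 1 = 13 ∨
      ∃ n r s : ℕ, r.Prime ∧ s.Prime ∧ 3 ^ n - 1 = 2 * r ∧ 3 ^ n + 1 = 4 * s ∧ 2 * a + 1 = 3 ^ n := by
  have hp3 := hp.two_le
  have hc : ¬ (2 * p).Prime := Nat.not_prime_mul (by omega) (by omega)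
  -- `p` and the multiple of `2 p`
  have key : ∀ e, 1 ≤ e → 2 * p ∣ e → OddOrders l a e → e = 2 * p := by
    intro e he hd hSe
    have h2 := Nat.le_of_dvd he hd
    refine h1 e (2 * p) hSe hS (by omega) (fun hpr => ?_) (by omega) hc
    rcases hpr.eq_one_or_self_of_dvd _ ((dvd_mul_right 2 p).trans hd) with h | h <;> omega
  have other : ∀ o, OddOrders l a o → 2 ≤ o → o ≠ 2 * p → o.Prime := fun o ho h2 hne => by
    by_contra hpr
    exact hne (h1 o (2 * p) ho hS (by omega) hpr (by omega) hc)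
  have h3 : ∀ m, 3 ∣ m → m.Prime → m = 3 := fun m hm hpr =>
    ((Nat.prime_dvd_prime_iff_eq Nat.prime_three hpr).1 hm).symm
  have hl3 : 3 ∣ 2 * a + 1 → l = 3 := fun h => by
    rw [hq] at h
    exact h3 l (Nat.prime_three.dvd_of_dvd_pow h) hl
  rcases hS with h | h | h
  · exact absurd ((Nat.dvd_prime hl).1 h) (by rintro (e | e) <;> [omega; exact hc (e ▸ hl)])
  · have ha := key a (by omega) h (Or.inr (Or.inl dvd_rfl))
    have hb := other (a + 1) (Or.inr (Or.inr dvd_rfl)) (by omega) (by omega)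
    by_cases hp33 : p = 3
    · omega
    exfalso
    rcases (by omega : p % 3 = 0 ∨ p % 3 = 1 ∨ p % 3 = 2) with e | e | e
    · exact hp33 (h3 p (Nat.dvd_of_mod_eq_zero e) hp)
    · have := h3 (a + 1) (by omega) hb
      omega
    · have hl' := hl3 (by omega)
      subst hl'
      rcases Nat.even_or_odd f with ⟨k, rfl⟩ | ⟨k, rfl⟩
      · obtain ⟨u, hu⟩ : Odd (3 ^ k) := (by decide : Odd 3).pow
        rw [pow_add, hu] at hq
        have hpu : p = u * (u + 1) := by nlinarith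
        have := (Nat.prime_dvd_prime_iff_eq Nat.prime_two hp).1
          (hpu ▸ (Nat.even_mul_succ_self u).two_dvd)
        omega
      · have h4 : 3 ^ (2 * k + 1) % 4 = 3 := by
          rw [pow_succ, pow_mul, Nat.mul_mod, Nat.pow_mod]
          norm_num
        (generalize 3 ^ (2 * k + 1) = X at hq h4; omega)
  · have ha := key (a + 1) (by omega) h (Or.inr (Or.inr dvd_rfl))
    have hb := other a (Or.inr (Or.inl dvd_rfl)) (by omega) (by omega)
    by_cases hp33 : p = 3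
    · omega
    rcases (by omega : p % 3 = 0 ∨ p % 3 = 1 ∨ p % 3 = 2) with e | e | e
    · exact absurd (h3 p (Nat.dvd_of_mod_eq_zero e) hp) hp33
    · have hl' := hl3 (by omega)
      subst hl'
      exact Or.inr (Or.inr ⟨f, a, p, hb, hp, by omega, by omega, hq⟩)
    · have := h3 a (by omega) hb
      omega

/-- Element orders of `PSL₂(2^n)`. -/
def EvenOrders (q m : ℕ) : Prop := m ∣ 2 ∨ m ∣ q - 1 ∨ m ∣ q + 1

theorem even_case {n : ℕ} (hn : 2 ≤ n) (h1 : OneComp (EvenOrders (2 ^ n))) :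
    n = 2 ∨ n = 3 ∨ n = 4 ∨ ∃ r, (2 ^ n - 1).Prime ∧ r.Prime ∧ 2 ^ n + 1 = 3 * r := by
  have h4 : 4 ≤ 2 ^ n := Nat.pow_le_pow_right (show 0 < 2 by norm_num) hn
  have hA : EvenOrders (2 ^ n) (2 ^ n - 1) := Or.inr (Or.inl dvd_rfl)
  have hB : EvenOrders (2 ^ n) (2 ^ n + 1) := Or.inr (Or.inr dvd_rfl)
  have hone : (2 ^ n - 1).Prime ∨ (2 ^ n + 1).Prime := by
    by_contra hcon
    push Not at hcon
    have := h1 _ _ hA hB (by omega) hcon.1 (by omega) hcon.2
    omega
  rcases Nat.even_or_odd n with ⟨k, rfl⟩ | ⟨k, rfl⟩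
  · -- even exponent
    by_cases hk : k = 1
    · omega
    obtain ⟨u, hu⟩ : ∃ u, 2 ^ k = u + 1 := ⟨2 ^ k - 1, by have := Nat.one_le_two_pow (n := k); omega⟩
    have hu3 : 3 ≤ u := by
      have := Nat.pow_le_pow_right (show 0 < 2 by norm_num) (show 2 ≤ k by omega)
      omega
    have e : 2 ^ (k + k) - 1 = u * (u + 2) := by
      rw [pow_add, hu]
      exact Nat.sub_eq_of_eq_add (by ring)
    have hnp : ¬ (2 ^ (k + k) - 1).Prime := e ▸ Nat.not_prime_mul (by omega) (by omega)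
    have hsub : ∀ m, m ∣ 2 ^ (k + k) - 1 → 2 ≤ m → m ≠ 2 ^ (k + k) - 1 → m.Prime := by
      intro m hm h2 hne
      by_contra hpr
      exact hne (h1 m _ (Or.inr (Or.inl hm)) hA (by omega) hpr (by omega) hnp)
    have hlt : u < u * (u + 2) ∧ u + 2 < u * (u + 2) := ⟨by nlinarith, by nlinarith⟩
    have hup : u.Prime := hsub u (e ▸ dvd_mul_right u _) (by omega) (by omega)
    have hup2 : (u + 2).Prime := hsub (u + 2) (e ▸ dvd_mul_left _ u) (by omega) (by omega)
    rcases Nat.even_or_odd k with ⟨j, rfl⟩ | ⟨j, rfl⟩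
    · by_cases hj : j = 1
      · omega
      exfalso
      obtain ⟨v, hv⟩ : ∃ v, 2 ^ j = v + 1 := ⟨2 ^ j - 1, by have := Nat.one_le_two_pow (n := j); omega⟩
      have := Nat.pow_le_pow_right (show 0 < 2 by norm_num) (show 2 ≤ j by omega)
      rw [pow_add, hv] at hu
      refine Nat.not_prime_mul (show v ≠ 1 by omega) (show v + 2 ≠ 1 by omega) ?_
      rwa [show v * (v + 2) = u by nlinarith]
    · exfalso
      have h3 : 2 ^ (2 * j + 1) % 3 = 2 := by
        rw [pow_succ, pow_mul, Nat.mul_mod, Nat.pow_mod]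
        norm_num
      rw [hu] at h3
      have := (Nat.prime_dvd_prime_iff_eq Nat.prime_three hup2).1 (by omega)
      omega
  · -- odd exponent
    have h3 : 2 ^ (2 * k + 1) % 3 = 2 := by
      rw [pow_succ, pow_mul, Nat.mul_mod, Nat.pow_mod]
      norm_num
    have hdvd : 3 ∣ 2 ^ (2 * k + 1) + 1 := by omega
    have h8 : 8 ≤ 2 ^ (2 * k + 1) := by
      have := Nat.pow_le_pow_right (show 0 < 2 by norm_num) (show 3 ≤ 2 * k + 1 by omega)
      omega
    have hBn : ¬ (2 ^ (2 * k + 1) + 1).Prime := fun hpr => by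
      have := (Nat.prime_dvd_prime_iff_eq Nat.prime_three hpr).1 hdvd
      omega
    refine Or.inr (Or.inr (Or.inr ⟨(2 ^ (2 * k + 1) + 1) / 3, hone.resolve_right hBn, ?_,
      (Nat.mul_div_cancel' hdvd).symm⟩))
    by_contra hpr
    have h9 := Nat.mul_div_cancel' hdvd
    have := h1 _ _ (Or.inr (Or.inr (Nat.div_dvd_of_dvd hdvd))) hB (by omega) hpr (by omega) hBn
    generalize 2 ^ (2 * k + 1) = X at this h8 h9 ⊢
    omega

theorem mersenne_case {q k a : ℕ} (hq : q.Prime) (ha : q = 2 * a + 1) (h2 : 2 ≤ a)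
    (hk : q = 2 ^ k + 1 ∨ q + 1 = 2 ^ k) (h1 : OneComp (OddOrders q a)) : q = 5 ∨ q = 7 := by
  rcases le_or_gt k 3 with hk3 | hk3
  · interval_cases k <;> rcases hk with e | e <;> norm_num at e <;> first | omega |
      (subst e; exact absurd hq (by norm_num))
  exfalso
  have h8 : 8 ∣ 2 ^ (k - 1) := dvd_trans (dvd_of_eq (by norm_num)) (pow_dvd_pow 2 (show 3 ≤ k - 1 by omega))
  have h : 2 ^ k = 2 * 2 ^ (k - 1) := by rw [← pow_succ', Nat.sub_add_cancel (by omega : 1 ≤ k)]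
  have hS : OddOrders q a (2 ^ (k - 1)) := by
    rcases hk with e | e
    · exact Or.inr (Or.inl (dvd_of_eq (by omega)))
    · exact Or.inr (Or.inr (dvd_of_eq (by omega)))
  have hmem : ∀ m, m ∣ 2 ^ (k - 1) → OddOrders q a m := fun m hm => by
    rcases hk with e | e
    · exact Or.inr (Or.inl (hm.trans (dvd_of_eq (by omega))))
    · exact Or.inr (Or.inr (hm.trans (dvd_of_eq (by omega))))
  have := h1 4 8 (hmem 4 ((show 4 ∣ 8 by norm_num).trans h8)) (hmem 8 h8) (by norm_num) (by norm_num)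
    (by norm_num) (by norm_num)
  omega

end Cfsg.Agent.OneEvenOrder
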