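import Cfsg.Agent.Lib.OneEvenOrder.Large
import Cfsg.Agent.Lib.OneEvenOrder.Numeric
import Cfsg.Agent.Lib.CITClass.Main
import Cfsg.Agent.Lib.PSL2.Facts
import Cfsg.Agent.Lib.Suzuki.LieModel
import Cfsg.Agent.S0333

/-!
# Simple groups with at most one composite element order

* `psl_range` : element orders of `PSL₂(q)` in the two forms of `Numeric`
* `psl_four_equiv` : `PSL₂(4) ≅ PSL₂(5)`
* `simple_list` : the list of S3718, given `Bender.RankOneHalf`
-/

set_option autoImplicit false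
set_option linter.style.haveILetI false
set_option linter.unusedSectionVars false

namespace Cfsg.Agent.OneEvenOrder

open Subgroup

universe u

variable {G : Type u} [Group G] [Finite G]

theorem four_le_card [IsSimpleGroup G] (hnc : ∃ a b : G, a * b ≠ b * a) {F : Type} [Field F]
    [Fintype F] (e : G ≃* Matrix.ProjectiveSpecialLinearGroup (Fin 2) F) : 4 ≤ Fintype.card F := by
  by_contra hlt
  push Not at hlt
  have h1 := Fintype.one_lt_card (α := F)
  have h2 := PSL2.card_psl_mul (F := F)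
  rw [← Nat.card_congr e.toEquiv, Nat.card_eq_fintype_card (α := F)] at h2
  haveI : Group.IsSolvable G := ItoSizes.isSolvable_of_two_primes Nat.prime_two Nat.prime_three
    fun r hr hd => by
      have h3 : r ∣ Fintype.card F * ((Fintype.card F + 1) * (Fintype.card F - 1)) :=
        h2 ▸ dvd_mul_of_dvd_right hd _
      obtain h | h : Fintype.card F = 2 ∨ Fintype.card F = 3 := by omega
      all_goals
        rw [h] at h3
        norm_num at h3
        rcases hr.dvd_mul.1 (show r ∣ 2 * (2 * (2 * 3)) from h3.trans (by norm_num)) with k | k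
        · exact Or.inl ((Nat.prime_dvd_prime_iff_eq hr Nat.prime_two).1 k)
        rcases hr.dvd_mul.1 k with k | k
        · exact Or.inl ((Nat.prime_dvd_prime_iff_eq hr Nat.prime_two).1 k)
        rcases hr.dvd_mul.1 k with k | k
        · exact Or.inl ((Nat.prime_dvd_prime_iff_eq hr Nat.prime_two).1 k)
        · exact Or.inr ((Nat.prime_dvd_prime_iff_eq hr Nat.prime_three).1 k)
  obtain ⟨a, b, hab⟩ := hnc
  exact hab (IsSimpleGroup.comm_iff_isSolvable.2 inferInstance a b)

/-- Element orders of a group isomorphic to `PSL₂(q)`, `q` even. -/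
theorem psl_range_even {F : Type} [Field F] [Fintype F] {n : ℕ} (hn : 1 ≤ n)
    (hF : Fintype.card F = 2 ^ n) (e : G ≃* Matrix.ProjectiveSpecialLinearGroup (Fin 2) F) (m : ℕ) :
    m ∈ Set.range (orderOf : G → ℕ) ↔ EvenOrders (2 ^ n) m := by
  haveI : Fact (Nat.Prime 2) := ⟨Nat.prime_two⟩
  haveI : CharP F 2 := charP_of_card_eq_prime_pow hF
  have hr : Set.range (orderOf : G → ℕ) =
      Set.range (orderOf : Matrix.ProjectiveSpecialLinearGroup (Fin 2) F → ℕ) := by
    ext k
    constructor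
    · rintro ⟨x, rfl⟩; exact ⟨e x, MulEquiv.orderOf_eq e x⟩
    · rintro ⟨x, rfl⟩; exact ⟨e.symm x, MulEquiv.orderOf_eq e.symm x⟩
  rw [hr, PSL2.range_psl_orderOf 2, Nat.card_eq_fintype_card, hF]
  have hodd : Odd (2 ^ n - 1) := by
    rw [Nat.odd_iff]
    have := dvd_pow_self 2 (show n ≠ 0 by omega)
    have := Nat.one_le_two_pow (n := n)
    omega
  rw [Nat.Coprime.gcd_eq_one (Nat.coprime_two_left.2 hodd), Nat.div_one, Nat.div_one]
  rfl

/-- Element orders of a group isomorphic to `PSL₂(q)`, `q` odd. -/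
theorem psl_range_odd {F : Type} [Field F] [Fintype F] {l a : ℕ} [Fact l.Prime] [CharP F l]
    (hF : Fintype.card F = 2 * a + 1) (e : G ≃* Matrix.ProjectiveSpecialLinearGroup (Fin 2) F) (m : ℕ) :
    m ∈ Set.range (orderOf : G → ℕ) ↔ OddOrders l a m := by
  have hr : Set.range (orderOf : G → ℕ) =
      Set.range (orderOf : Matrix.ProjectiveSpecialLinearGroup (Fin 2) F → ℕ) := by
    ext k
    constructor
    · rintro ⟨x, rfl⟩; exact ⟨e x, MulEquiv.orderOf_eq e x⟩
    · rintro ⟨x, rfl⟩; exact ⟨e.symm x, MulEquiv.orderOf_eq e.symm x⟩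
  rw [hr, PSL2.range_psl_orderOf l, Nat.card_eq_fintype_card, hF, Nat.add_sub_cancel,
    Nat.gcd_eq_left (dvd_mul_right 2 a), Nat.mul_div_cancel_left _ two_pos,
    show 2 * a + 1 + 1 = 2 * (a + 1) by ring, Nat.mul_div_cancel_left _ two_pos]
  rfl

/-- `PSL₂(4) ≅ PSL₂(5)`. -/
theorem psl_four_equiv {F : Type} [Field F] [Fintype F] (hF : Fintype.card F = 4) :
    Nonempty (Matrix.ProjectiveSpecialLinearGroup (Fin 2) F ≃*
      Matrix.ProjectiveSpecialLinearGroup (Fin 2) (ZMod 5)) := by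
  haveI : Fact (Nat.Prime 5) := ⟨Nat.prime_five⟩
  obtain ⟨f⟩ := PSL2.mulEquiv_alternatingFive_of_four (F := F) (by rw [Nat.card_eq_fintype_card, hF])
  have hcard : Nat.card (Matrix.ProjectiveSpecialLinearGroup (Fin 2) (ZMod 5)) = 60 := by
    have h := PSL2.card_psl_mul (F := ZMod 5)
    rw [Nat.card_zmod] at h
    norm_num at h
    show Nat.card (PSL2.PSL2 (ZMod 5)) = 60
    rw [Nat.card_eq_fintype_card]
    omega
  have h5 : Nat.card (Sylow 5 (Matrix.ProjectiveSpecialLinearGroup (Fin 2) (ZMod 5))) ≠ 1 := by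
    intro hone
    haveI : IsSimpleGroup (Matrix.ProjectiveSpecialLinearGroup (Fin 2) (ZMod 5)) :=
      Matrix.ProjectiveSpecialLinearGroup.rank_two_simple (by rw [Nat.card_zmod]; norm_num)
    obtain ⟨hsub, -⟩ := Nat.card_eq_one_iff_unique.1 hone
    obtain ⟨P⟩ := (inferInstance : Nonempty (Sylow 5 (Matrix.ProjectiveSpecialLinearGroup (Fin 2) (ZMod 5))))
    have hP5 := SmallOrders.card_sylow_subgroup (e := 1) (m := 12) (by rw [hcard]; norm_num) (by norm_num) P
    rw [pow_one] at hP5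
    rcases P.normal_of_subsingleton.eq_bot_or_eq_top with e | e
    · rw [e, Subgroup.card_bot] at hP5; omega
    · rw [e, Subgroup.card_top, hcard] at hP5; omega
  have hord : ∀ x : Matrix.ProjectiveSpecialLinearGroup (Fin 2) (ZMod 5),
      orderOf x ∈ ({1, 2, 3, 5} : Set ℕ) := by
    intro x
    rcases PSL2.psl_orderOf_cases 5 x with hx | hx | hx <;>
      · (try rw [Nat.card_zmod] at hx)
        (try norm_num at hx)
        first
        | rcases (Nat.dvd_prime Nat.prime_two).1 hx with e | e <;> simp [e]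
        | rcases (Nat.dvd_prime Nat.prime_three).1 hx with e | e <;> simp [e]
        | rcases (Nat.dvd_prime Nat.prime_five).1 hx with e | e <;> simp [e]
  obtain ⟨g⟩ := PSL2.mulEquiv_alternatingFive hcard hord h5
  exact ⟨f.trans g.symm⟩

/-- A CIT group with at most one composite element order. -/
theorem cit_list [IsSimpleGroup G] (hnc : ∃ a b : G, a * b ≠ b * a) (hG : CIT.IsCIT G)
    (h1 : OneComp (· ∈ Set.range (orderOf : G → ℕ))) :
    (∃ (F : Type) (_ : Field F) (_ : Fintype F), (Fintype.card F = 5 ∨ Fintype.card F = 7 ∨ Fintype.card F = 8 ∨ Fintype.card F = 9 ∨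
        Fintype.card F = 11 ∨ Fintype.card F = 13 ∨ Fintype.card F = 16) ∧ Nonempty (G ≃* Matrix.ProjectiveSpecialLinearGroup (Fin 2) F)) ∨
    (∃ (F : Type) (_ : Field F) (_ : Fintype F), Fintype.card F = 4 ∧ Nonempty (G ≃* Matrix.ProjectiveSpecialLinearGroup (Fin 3) F)) ∨
    (∃ (F : Type) (_ : Field F) (_ : Fintype F), Fintype.card F = 8 ∧ Nonempty (G ≃* ↥(Cfsg.Lie.Sz F 4))) ∨
    (∃ (F : Type) (_ : Field F) (_ : Fintype F), ∃ n r : ℕ, (2 ^ n - 1).Prime ∧ r.Prime ∧ 2 ^ n + 1 = 3 * r ∧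
        Fintype.card F = 2 ^ n ∧ Nonempty (G ≃* Matrix.ProjectiveSpecialLinearGroup (Fin 2) F)) := by
  rcases CITClass.classify hnc hG with ⟨F, _, _, hF, ⟨e⟩⟩ | h | ⟨F, _, _, m, hm, hF, ⟨e⟩⟩
  · have h4 := four_le_card hnc e
    rcases hF with hF | ⟨n, hF⟩ | ⟨hpr, k, hk⟩
    · exact Or.inl ⟨F, _, _, by omega, ⟨e⟩⟩
    · have hn : 2 ≤ n := by
        by_contra hlt
        have := Nat.pow_le_pow_right (show 0 < 2 by norm_num) (show n ≤ 1 by omega)
        omega
      have hs : OneComp (EvenOrders (2 ^ n)) := fun a b ha hb => h1 a b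
        ((psl_range_even (by omega) hF e a).2 ha) ((psl_range_even (by omega) hF e b).2 hb)
      rcases even_case hn hs with rfl | rfl | rfl | ⟨r, h⟩
      · obtain ⟨f⟩ := psl_four_equiv (F := F) (by rw [hF]; norm_num)
        haveI : Fact (Nat.Prime 5) := ⟨Nat.prime_five⟩
        exact Or.inl ⟨ZMod 5, inferInstance, inferInstance, Or.inl (ZMod.card 5), ⟨e.trans f⟩⟩
      · exact Or.inl ⟨F, _, _, Or.inr (Or.inr (Or.inl (hF.trans (by norm_num)))), ⟨e⟩⟩
      · exact Or.inl ⟨F, _, _, by omega, ⟨e⟩⟩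
      · exact Or.inr (Or.inr (Or.inr ⟨F, _, _, n, r, h.1, h.2.1, h.2.2, hF, ⟨e⟩⟩))
    · obtain ⟨a, ha⟩ := hpr.odd_of_ne_two (by omega)
      haveI := Fact.mk hpr
      haveI : CharP F (Fintype.card F) :=
        charP_of_card_eq_prime_pow (f := 1) (by rw [pow_one])
      rcases mersenne_case hpr ha (by omega) hk (fun b c hb hc => h1 b c
        ((psl_range_odd ha e b).2 hb) ((psl_range_odd ha e c).2 hc)) with h | h
      · exact Or.inl ⟨F, _, _, Or.inl h, ⟨e⟩⟩
      · exact Or.inl ⟨F, _, _, Or.inr (Or.inl h), ⟨e⟩⟩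
  · exact Or.inr (Or.inl h)
  · refine Or.inr (Or.inr (Or.inl ?_))
    suffices hm1 : m = 1 by
      subst hm1
      exact ⟨F, _, _, by rw [hF]; norm_num, ⟨e.trans (MulEquiv.subgroupCongr (by norm_num))⟩⟩
    by_contra hm1
    let e' : G ≃* Cfsg.Sz F m := e.trans (Suzuki.lieEquiv hm hF).symm
    -- orders `4` and the two torus orders
    have h4 : 4 ∈ Set.range (orderOf : G → ℕ) := by
      by_contra hno
      have hdvd : Monoid.exponent (Suzuki.uSub hF) ∣ 2 := by
        refine Monoid.exponent_dvd_of_forall_pow_eq_one fun x => ?_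
        have hx4 : orderOf x ∣ 2 ^ 2 := by
          have := Monoid.order_dvd_exponent x
          rwa [Suzuki.exponent_uSub] at this
        obtain ⟨j, hj, hj'⟩ := (Nat.dvd_prime_pow Nat.prime_two).1 hx4
        have hj1 : j ≤ 1 := by
          by_contra hgt
          refine hno ⟨e'.symm (x : Cfsg.Sz F m), ?_⟩
          rw [MulEquiv.orderOf_eq, orderOf_coe, hj', show j = 2 by omega]
          norm_num
        exact orderOf_dvd_iff_pow_eq_one.1 (hj' ▸ (pow_dvd_pow 2 hj1).trans (pow_one 2).dvd)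
      rw [Suzuki.exponent_uSub] at hdvd
      norm_num at hdvd
    have htor : ∀ k ∈ ({2 ^ (2 * m + 1) + 2 ^ (m + 1) + 1, 2 ^ (2 * m + 1) - 2 ^ (m + 1) + 1} : Set ℕ),
        k ∈ Set.range (orderOf : G → ℕ) := fun k hk => by
      obtain ⟨U, hU, hUk, -⟩ := S0333.result hm hF k hk
      obtain ⟨g, hg⟩ := hU.exists_ofOrder_eq_natCard
      exact ⟨e'.symm (g : Cfsg.Sz F m), by rw [MulEquiv.orderOf_eq, orderOf_coe, hg, hUk]⟩
    set q := 2 ^ (2 * m + 1) with hq
    set r := 2 ^ (m + 1) with hr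
    have hr8 : 8 ≤ r := by
      have := Nat.pow_le_pow_right (show 0 < 2 by norm_num) (show 3 ≤ m + 1 by omega)
      omega
    have hqr : 4 * r ≤ q := by
      calc 4 * r = 2 ^ (m + 3) := by rw [hr]; ring
        _ ≤ q := Nat.pow_le_pow_right (by norm_num) (by omega)
    have hprime : ∀ k ∈ ({q + r + 1, q - r + 1} : Set ℕ), k.Prime := fun k hk => by
      by_contra hk'
      have := h1 k 4 (htor k hk) h4 (by rcases hk with rfl | rfl <;> omega) hk' (by norm_num) (by norm_num)
      rcases hk with rfl | rfl <;> omega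
    have h5 : 5 ∣ (q + r + 1) * (q - r + 1) := by
      have hr2 : r * r = 2 * q := by rw [hq, hr, ← pow_add, ← pow_succ']; congr 1; ring
      have e1 : (q + r + 1) * (q - r + 1) = q * q + 1 := by
        obtain ⟨d, hd⟩ := Nat.le.dest (show r ≤ q by omega)
        rw [show q - r = d by omega]
        nlinarith
      rw [e1, hq, ← pow_add]
      refine Nat.dvd_of_mod_eq_zero ?_
      rw [show 2 * m + 1 + (2 * m + 1) = 4 * m + 2 by ring, pow_add, pow_mul, Nat.add_mod,
        Nat.mul_mod, Nat.pow_mod]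
      norm_num
    rcases Nat.prime_five.dvd_mul.1 h5 with h | h
    · have := (Nat.prime_dvd_prime_iff_eq Nat.prime_five (hprime _ (Or.inl rfl))).1 h
      omega
    · have := (Nat.prime_dvd_prime_iff_eq Nat.prime_five (hprime _ (Or.inr rfl))).1 h
      omega

/-- Simple groups with at most one composite element order. -/
theorem simple_list [IsSimpleGroup G] (hR : Bender.RankOneHalf.{u})
    (h1 : {n : ℕ | n ∈ Set.range (orderOf : G → ℕ) ∧ 1 < n ∧ ¬ n.Prime}.Subsingleton) :
    (Nat.card G).Prime ∨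
    (∃ (F : Type) (_ : Field F) (_ : Fintype F), (Fintype.card F = 5 ∨ Fintype.card F = 7 ∨ Fintype.card F = 8 ∨ Fintype.card F = 9 ∨
        Fintype.card F = 11 ∨ Fintype.card F = 13 ∨ Fintype.card F = 16) ∧ Nonempty (G ≃* Matrix.ProjectiveSpecialLinearGroup (Fin 2) F)) ∨
    (∃ (F : Type) (_ : Field F) (_ : Fintype F), Fintype.card F = 4 ∧ Nonempty (G ≃* Matrix.ProjectiveSpecialLinearGroup (Fin 3) F)) ∨
    (∃ (F : Type) (_ : Field F) (_ : Fintype F), Fintype.card F = 8 ∧ Nonempty (G ≃* ↥(Cfsg.Lie.Sz F 4))) ∨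
    (∃ (F : Type) (_ : Field F) (_ : Fintype F), ∃ n r s : ℕ, r.Prime ∧ s.Prime ∧ 3 ^ n - 1 = 2 * r ∧ 3 ^ n + 1 = 4 * s ∧
        Fintype.card F = 3 ^ n ∧ Nonempty (G ≃* Matrix.ProjectiveSpecialLinearGroup (Fin 2) F)) ∨
    (∃ (F : Type) (_ : Field F) (_ : Fintype F), ∃ n r : ℕ, (2 ^ n - 1).Prime ∧ r.Prime ∧ 2 ^ n + 1 = 3 * r ∧
        Fintype.card F = 2 ^ n ∧ Nonempty (G ≃* Matrix.ProjectiveSpecialLinearGroup (Fin 2) F)) := by
  have hone : OneComp (· ∈ Set.range (orderOf : G → ℕ)) :=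
    fun a b ha hb ha1 ha2 hb1 hb2 => h1 ⟨ha, ha1, ha2⟩ ⟨hb, hb1, hb2⟩
  by_cases hnc : ∃ a b : G, a * b ≠ b * a
  swap
  · push Not at hnc
    letI : CommGroup G := { (inferInstance : Group G) with mul_comm := hnc }
    exact Or.inl IsSimpleGroup.prime_card
  right
  by_cases hG : CIT.IsCIT G
  · rcases cit_list hnc hG hone with h | h | h | h
    · exact Or.inl h
    · exact Or.inr (Or.inl h)
    · exact Or.inr (Or.inr (Or.inl h))
    · exact Or.inr (Or.inr (Or.inr (Or.inr h)))
  · -- some element has order `2 p`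
    obtain ⟨t, c, p, ht, hp, hp2, htc, hc⟩ : ∃ (t c : G) (p : ℕ), orderOf t = 2 ∧ p.Prime ∧ p ≠ 2 ∧
        Commute t c ∧ orderOf c = p := by
      by_contra hcon
      refine hG fun t ht => ?_
      push Not at hcon
      refine IsPGroup.of_card (n := (Nat.card (centralizer ({t} : Set G))).primeFactorsList.length)
        (Nat.eq_prime_pow_of_unique_prime_dvd Nat.card_pos.ne' fun {r} hr hd => ?_)
      by_contra hne
      haveI := Fact.mk hr
      obtain ⟨c, hcr⟩ := exists_prime_orderOf_dvd_card' r hd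
      exact hcon t (c : G) r ht hr hne (mem_centralizer_singleton_iff.1 c.2).symm
        (by rw [orderOf_coe, hcr])
    have hx : orderOf (t * c) = 2 * p := by
      rw [htc.orderOf_mul_eq_mul_orderOf_of_coprime, ht, hc]
      rw [ht, hc]
      exact (Nat.coprime_primes Nat.prime_two hp).2 hp2.symm
    have h2p : ¬ (2 * p).Prime := Nat.not_prime_mul (by omega) hp.ne_one
    have hH : Hyp G p := by
      refine ⟨hp, hp2, fun y hy => ?_, fun y hy => ?_⟩
      all_goals
        have hpos := orderOf_pos y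
        have := hp.two_le
        have h2 := Nat.le_of_dvd hpos hy
        by_cases hpr : (orderOf y).Prime
      · rw [← (Nat.prime_dvd_prime_iff_eq Nat.prime_two hpr).1 hy]
        exact dvd_mul_right 2 p
      · rw [hone _ _ ⟨y, rfl⟩ ⟨t * c, hx⟩ (by omega) hpr (by omega) h2p]
      · rw [← (Nat.prime_dvd_prime_iff_eq hp hpr).1 hy]
        exact dvd_mul_left p 2
      · rw [hone _ _ ⟨y, rfl⟩ ⟨t * c, hx⟩ (by omega) hpr (by omega) h2p]
    obtain ⟨F, _, _, hodd, ⟨e⟩⟩ := hH.psl_two hR ⟨_, hx⟩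
    obtain ⟨a, ha⟩ := hodd
    obtain ⟨l, hchar, ⟨f, hf⟩, hl, hlf⟩ := FiniteField.card' F
    change Fintype.card F = l ^ f at hlf
    haveI := Fact.mk hl
    have h4 := four_le_card hnc e
    have hs : OneComp (OddOrders l a) := fun b d hb hd => hone b d
      ((psl_range_odd ha e b).2 hb) ((psl_range_odd ha e d).2 hd)
    rcases odd_case hl (ha ▸ hlf) (by omega) hp hp2 hs ((psl_range_odd ha e _).1 ⟨_, hx⟩) with
      h | h | ⟨n, r, s, hr, hs', h3, h4', hn⟩
    · exact Or.inl ⟨F, _, _, by omega, ⟨e⟩⟩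
    · exact Or.inl ⟨F, _, _, by omega, ⟨e⟩⟩
    · exact Or.inr (Or.inr (Or.inr (Or.inl ⟨F, _, _, n, r, s, hr, hs', h3, h4', ha.trans hn, ⟨e⟩⟩)))

end Cfsg.Agent.OneEvenOrder
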