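import Cfsg.Agent.EqLemmas
import Cfsg.Agent.Lib.Coprime.Generation
import Cfsg.Agent.Lib.Coprime.Invariant
import Cfsg.Agent.Lib.Coprime.Frattini
import Cfsg.Agent.Lib.Cores.Basic
import Cfsg.Agent.Lib.PGroup.Basic

/-!
# Even element orders dividing `2p`, Klein four Sylow subgroup: local part

`Hyp G p` : every element order divisible by `2` or by the odd prime `p` divides `2p`.

* `Hyp.isPGroup_of_invariant` : an odd order group normalised by the four-group is a `p`-group
* `Hyp.le_centralizer_of_three` : a `p`-group normalised by the four-group and by an element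
  permuting its involutions cyclically is centralised by the four-group
* `Hyp.exists_complement` : a subgroup containing the four-group with trivial automiser has an odd
  normal complement containing all its odd order subgroups
* `Hyp.exists_three` : an element of order three permuting the involutions of the four-group
-/

set_option autoImplicit false
set_option linter.style.haveILetI false

open scoped Pointwise commutatorElement IsMulCommutative

namespace Cfsg.Agent.OneEvenOrder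

open Subgroup

/-- Element orders divisible by `2` or by the odd prime `p` divide `2p`. -/
structure Hyp (G : Type*) [Group G] (p : ℕ) : Prop where
  prime : p.Prime
  odd : p ≠ 2
  two : ∀ x : G, 2 ∣ orderOf x → orderOf x ∣ 2 * p
  pp : ∀ x : G, p ∣ orderOf x → orderOf x ∣ 2 * p

variable {G : Type*} [Group G] [Finite G] {p : ℕ}

omit [Finite G] in
theorem Hyp.pow_eq_one (h : Hyp G p) {x : G} {k : ℕ} (hx : x ^ k ≠ 1)
    (hp : orderOf (x ^ k) ∣ p) : x ^ (2 * p) = 1 := by
  refine orderOf_dvd_iff_pow_eq_one.1 (h.pp x ?_)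
  have h1 : orderOf (x ^ k) = p :=
    ((Nat.dvd_prime h.prime).1 hp).resolve_left fun e => hx (orderOf_eq_one_iff.1 e)
  exact h1 ▸ orderOf_pow_dvd k

omit [Finite G] in
theorem conj_mem {H : Subgroup G} {g x : G} (hg : g ∈ normalizer (H : Set G)) (hx : x ∈ H) :
    g * x * g⁻¹ ∈ H := (mem_normalizer_iff.1 hg x).1 hx

omit [Finite G] in
/-- Elements of a Klein four subgroup commute and square to one. -/
theorem klein_facts (V : Subgroup G) [IsKleinFour V] {a b : G} (ha : a ∈ V) (hb : b ∈ V) :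
    a * b = b * a ∧ a * a = 1 := by
  haveI := IsKleinFour.isMulCommutative (G := V)
  exact ⟨setLike_mul_comm ha hb, congrArg Subtype.val (IsKleinFour.mul_self (⟨a, ha⟩ : V))⟩

omit [Finite G] in
/-- Three different involutions fill a Klein four subgroup. -/
theorem klein_cases (V : Subgroup G) [IsKleinFour V] {t u : G} (ht : t ∈ V) (hu : u ∈ V)
    (ht1 : t ≠ 1) (hu1 : u ≠ 1) (htu : t ≠ u) {a : G} (ha : a ∈ V) (ha1 : a ≠ 1) :
    a = t ∨ a = u ∨ a = t * u := by
  by_cases h1 : a = t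
  · exact Or.inl h1
  by_cases h2 : a = u
  · exact Or.inr (Or.inl h2)
  refine Or.inr (Or.inr ?_)
  have e := IsKleinFour.eq_mul_of_ne_all (G := V) (x := ⟨t, ht⟩) (y := ⟨u, hu⟩) (z := ⟨a, ha⟩)
    (fun e => ht1 (congrArg Subtype.val e)) (fun e => hu1 (congrArg Subtype.val e))
    (fun e => htu (congrArg Subtype.val e)) (fun e => ha1 (congrArg Subtype.val e))
    (fun e => h1 (congrArg Subtype.val e)) (fun e => h2 (congrArg Subtype.val e))
  exact congrArg Subtype.val e

omit [Finite G] in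
theorem klein_orderOf (V : Subgroup G) [IsKleinFour V] {a : G} (ha : a ∈ V) (ha1 : a ≠ 1) :
    orderOf a = 2 := by
  haveI : Fact (Nat.Prime 2) := ⟨Nat.prime_two⟩
  exact orderOf_eq_prime (by rw [pow_two]; exact (klein_facts V ha ha).2) ha1

omit [Finite G] in
theorem coprime_four (V : Subgroup G) [IsKleinFour V] {K : Subgroup G} (hK : Odd (Nat.card K)) :
    (Nat.card V).Coprime (Nat.card K) := by
  rw [IsKleinFour.card_four]
  exact (Nat.Coprime.pow_left 2 (Nat.coprime_two_left.2 hK))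

theorem Hyp.odd_card (h : Hyp G p) {D : Subgroup G} (hD : IsPGroup p D) : Odd (Nat.card D) := by
  haveI := Fact.mk h.prime
  obtain ⟨k, hk⟩ := IsPGroup.iff_card.1 hD
  exact hk ▸ (h.prime.odd_of_ne_two h.odd).pow

/-- Generation by the centralisers of the four-group. -/
theorem generate (V : Subgroup G) [IsKleinFour V] {K W : Subgroup G}
    (hV : V ≤ normalizer (K : Set G)) (hK : Odd (Nat.card K))
    (hW : ∀ a ∈ V, a ≠ 1 → K ⊓ centralizer {a} ≤ W) : K ≤ W := by
  haveI := IsKleinFour.isMulCommutative (G := V)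
  exact Coprime.le_of_noncyclic IsKleinFour.not_isCyclic hV (coprime_four V hK) hW

/-- An odd order subgroup normalised by the four-group is a `p`-group. -/
theorem Hyp.isPGroup_of_invariant (h : Hyp G p) (V : Subgroup G) [IsKleinFour V] {R : Subgroup G}
    (hV : V ≤ normalizer (R : Set G)) (hR : Odd (Nat.card R)) : IsPGroup p R := by
  haveI := Fact.mk h.prime
  haveI := IsKleinFour.isMulCommutative (G := V)
  refine IsPGroup.of_card (n := (Nat.card R).primeFactorsList.length)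
    (Nat.eq_prime_pow_of_unique_prime_dvd Nat.card_pos.ne' fun {r} hr hd => ?_)
  haveI := Fact.mk hr
  obtain ⟨P, hP⟩ := Coprime.exists_invariant_sylow hV (coprime_four V hR)
    (Or.inl inferInstance) r
  have hPR : ((P : Subgroup R).map R.subtype) ≤ R := map_subtype_le _
  by_contra hrp
  refine absurd (generate V (W := ⊥) hP (hR.of_dvd_nat (card_dvd_of_le hPR)) ?_) ?_
  · intro a ha ha1 x hx
    by_contra hx1
    obtain ⟨k, hk⟩ := (IsPGroup.iff_orderOf.1 (P.2.map R.subtype)) ⟨x, hx.1⟩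
    rw [orderOf_mk] at hk
    have hk0 : k ≠ 0 := fun e => hx1 (orderOf_eq_one_iff.1 (by simp [hk, e]))
    have hr2 : r ≠ 2 := fun e => Nat.not_even_iff_odd.2 hR (even_iff_two_dvd.2 (e ▸ hd))
    have hord : orderOf (a * x) = 2 * r ^ k := by
      have hc : Commute a x := (mem_centralizer_singleton_iff.1 hx.2).symm
      rw [hc.orderOf_mul_eq_mul_orderOf_of_coprime, klein_orderOf V ha ha1, hk]
      rw [klein_orderOf V ha ha1, hk]
      exact Nat.Coprime.pow_right k ((Nat.coprime_primes Nat.prime_two hr).2 hr2.symm)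
    have h2 := Nat.dvd_of_mul_dvd_mul_left two_pos (hord ▸ h.two (a * x) (hord ▸ dvd_mul_right 2 _))
    exact hrp ((Nat.prime_dvd_prime_iff_eq hr h.prime).1 ((dvd_pow_self r hk0).trans h2))
  · intro hbot
    have := P.dvd_card_of_dvd_card hd
    rw [← Cores.card_map_subtype R (P : Subgroup R), le_bot_iff.1 hbot, card_bot] at this
    exact hr.not_dvd_one this

/-- An element of order three permuting the involutions of `V` and normalising a `p`-group `D`
forces `V` to centralise `D`. -/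
theorem Hyp.le_centralizer_of_three (h : Hyp G p) (V : Subgroup G) [IsKleinFour V] {s t u : G}
    (ht : t ∈ V) (hu : u ∈ V) (ht1 : t ≠ 1) (hu1 : u ≠ 1) (htu : t ≠ u) (hs : orderOf s = 3)
    (hst : s * t * s⁻¹ = u) (hsu : s * u * s⁻¹ = t * u) {D : Subgroup G} (hD : IsPGroup p D)
    (hVD : V ≤ normalizer (D : Set G)) (hsD : s ∈ normalizer (D : Set G)) :
    V ≤ centralizer (D : Set G) := by
  haveI := Fact.mk h.prime
  have hodd := h.odd_card hD
  have hoddF : Odd (Nat.card (frattini D)) := hodd.of_dvd_nat (card_subgroup_dvd_card _)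
  refine Coprime.le_centralizer_of_forall_mem_frattini hVD ?_ ?_
  · rw [IsKleinFour.card_four]
    exact Nat.Coprime.pow_left 2 (Nat.coprime_two_left.2 hoddF)
  set F := (frattini D).map D.subtype with hF
  set N := normalizer (D : Set G) with hN
  have hFn : N ≤ normalizer (F : Set G) := Cores.normalizer_le_normalizer_map _
  have hFD : F ≤ D := map_subtype_le _
  -- work in `N / F`
  let FN : Subgroup N := F.subgroupOf N
  haveI hFNn : FN.Normal := Cores.subgroupOf_normal_of_le_normalizer hFn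
  let q : N →* N ⧸ FN := QuotientGroup.mk' FN
  have hq : ∀ (x : G) (hx : x ∈ N), q ⟨x, hx⟩ = 1 ↔ x ∈ F := fun x hx =>
    (QuotientGroup.eq_one_iff _).trans Iff.rfl
  have hDN : D ≤ N := le_normalizer
  have hqc : ∀ a b : N, (a : G) ∈ D → (b : G) ∈ D → Commute (q a) (q b) := fun a b ha hb => by
    refine commutatorElement_eq_one_iff_commute.1 ?_
    rw [← map_commutatorElement]
    exact (hq ⁅(a : G), (b : G)⁆ (⁅a, b⁆).2).2 ⟨⁅(⟨a, ha⟩ : D), ⟨b, hb⟩⁆, PGroup.commutatorElement_mem_frattini hD _ _, rfl⟩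
  set T : N := ⟨t, hVD ht⟩ with hT
  set U : N := ⟨u, hVD hu⟩ with hU
  set S : N := ⟨s, hsD⟩ with hS
  have hTT : q T * q T = 1 := by
    rw [← map_mul, show T * T = 1 from Subtype.ext (klein_facts V ht ht).2, map_one]
  have hUU : q U * q U = 1 := by
    rw [← map_mul, show U * U = 1 from Subtype.ext (klein_facts V hu hu).2, map_one]
  have hTU : Commute (q T) (q U) := by
    rw [Commute, SemiconjBy, ← map_mul, ← map_mul,
      show T * U = U * T from Subtype.ext (klein_facts V ht hu).1]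
  have hST : q S * q T * (q S)⁻¹ = q U := by
    rw [← map_inv, ← map_mul, ← map_mul]; congr 1; exact Subtype.ext hst
  have hSU : q S * q U * (q S)⁻¹ = q T * q U := by
    rw [← map_inv, ← map_mul, ← map_mul, ← map_mul]; congr 1; exact Subtype.ext hsu
  have hSTU : q S * (q T * q U) * (q S)⁻¹ = q T := by
    rw [show q S * (q T * q U) * (q S)⁻¹ = q S * q T * (q S)⁻¹ * (q S * q U * (q S)⁻¹) by group,
      hST, hSU, ← mul_assoc, hTU.eq.symm, mul_assoc, hUU, mul_one]
  have hUi : (q U)⁻¹ = q U := inv_eq_of_mul_eq_one_right hUU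
  have hTi : (q T)⁻¹ = q T := inv_eq_of_mul_eq_one_right hTT
  -- images of elements of `D`
  set M : Subgroup (N ⧸ FN) := (D.subgroupOf N).map q with hM
  have hMc : ∀ a ∈ M, ∀ b ∈ M, Commute a b := by
    rintro _ ⟨a, ha, rfl⟩ _ ⟨b, hb, rfl⟩; exact hqc a b ha hb
  have hMn : ∀ (g : N) (a : N ⧸ FN), a ∈ M → q g * a * (q g)⁻¹ ∈ M := by
    rintro g _ ⟨a, ha, rfl⟩
    rw [← map_inv, ← map_mul, ← map_mul]
    exact ⟨_, (conj_mem g.2 (show (a : G) ∈ D from ha) : ((g * a * g⁻¹ : N) : G) ∈ D), rfl⟩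
  have hMp : ∀ a ∈ M, ∃ k : ℕ, a ^ p ^ k = 1 := by
    rintro _ ⟨a, ha, rfl⟩
    obtain ⟨k, hk⟩ := hD ⟨a, ha⟩
    exact ⟨k, by rw [← map_pow, show a ^ p ^ k = 1 from Subtype.ext (by simpa using congrArg Subtype.val hk), map_one]⟩
  have hM2 : ∀ a ∈ M, a * a = 1 → a = 1 := fun a ha e => by
    obtain ⟨k, hk⟩ := hMp a ha
    obtain ⟨j, hj⟩ := ((h.prime.odd_of_ne_two h.odd).pow : Odd (p ^ k))
    rwa [hj, pow_add, pow_mul, pow_two, e, one_pow, one_mul, pow_one] at hk
  -- no element is fixed by `t` and inverted by `u`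
  have key : ∀ d ∈ M, q T * d * (q T)⁻¹ = d → q U * d * (q U)⁻¹ = d⁻¹ → d = 1 := by
    intro d hd hdt hdu
    obtain ⟨x, hx, rfl⟩ := hd
    set d := q x with hdef
    have hd : d ∈ M := ⟨x, hx, rfl⟩
    set e := q S * d * (q S)⁻¹ with he
    set f := q S * e * (q S)⁻¹ with hf
    have heM : e ∈ M := hMn S d hd
    have hfM : f ∈ M := hMn S e heM
    have hdv : (q T * q U) * d * (q T * q U)⁻¹ = d⁻¹ := by
      rw [show q T * q U * d * (q T * q U)⁻¹ = q T * (q U * d * (q U)⁻¹) * (q T)⁻¹ by group, hdu,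
        show q T * d⁻¹ * (q T)⁻¹ = (q T * d * (q T)⁻¹)⁻¹ by group, hdt]
    have het : q T * e * (q T)⁻¹ = e⁻¹ := by
      rw [← hSTU, he]
      rw [show q S * (q T * q U) * (q S)⁻¹ * (q S * d * (q S)⁻¹) * (q S * (q T * q U) * (q S)⁻¹)⁻¹ =
        q S * ((q T * q U) * d * (q T * q U)⁻¹) * (q S)⁻¹ by group, hdv]
      group
    have heu : q U * e * (q U)⁻¹ = e := by
      rw [← hST, he]
      rw [show q S * q T * (q S)⁻¹ * (q S * d * (q S)⁻¹) * (q S * q T * (q S)⁻¹)⁻¹ =
        q S * (q T * d * (q T)⁻¹) * (q S)⁻¹ by group, hdt]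
    have hev : (q T * q U) * e * (q T * q U)⁻¹ = e⁻¹ := by
      rw [show q T * q U * e * (q T * q U)⁻¹ = q T * (q U * e * (q U)⁻¹) * (q T)⁻¹ by group, heu, het]
    have hft : q T * f * (q T)⁻¹ = f⁻¹ := by
      rw [← hSTU, hf]
      rw [show q S * (q T * q U) * (q S)⁻¹ * (q S * e * (q S)⁻¹) * (q S * (q T * q U) * (q S)⁻¹)⁻¹ =
        q S * ((q T * q U) * e * (q T * q U)⁻¹) * (q S)⁻¹ by group, hev]
      group
    by_contra hd1
    have hdef1 : d * e * f ≠ 1 := by
      intro hc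
      have hc2 : d * e⁻¹ * f⁻¹ = 1 := by
        rw [← hdt, ← het, ← hft,
          show q T * d * (q T)⁻¹ * (q T * e * (q T)⁻¹) * (q T * f * (q T)⁻¹) =
            q T * (d * e * f) * (q T)⁻¹ by group, hc]
        group
      refine hd1 (hM2 d hd ?_)
      have h1 : d⁻¹ = e * f := inv_eq_of_mul_eq_one_right (by rw [← mul_assoc]; exact hc)
      have h2 : d = f * e := by
        have := mul_eq_one_iff_eq_inv.1 (show d * (e⁻¹ * f⁻¹) = 1 by rw [← mul_assoc]; exact hc2)
        simpa using this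
      calc d * d = d * (f * e) := by rw [← h2]
        _ = d * (e * f) := by rw [(hMc f hfM e heM).eq]
        _ = 1 := by rw [← h1, mul_inv_cancel]
    -- the cube of `x s`
    set z : G := x * (s * x * s⁻¹) * (s * (s * x * s⁻¹) * s⁻¹) with hz
    have hs3 : s * s * s = 1 := by
      rw [← pow_orderOf_eq_one s, hs]; simp [pow_succ]
    have hz3 : ((x : G) * s) ^ 3 = z := by
      rw [hz]
      calc ((x : G) * s) ^ 3
          = (x : G) * (s * x * s⁻¹) * (s * (s * x * s⁻¹) * s⁻¹) * (s * s * s) := by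
            simp [pow_succ]; group
        _ = _ := by rw [hs3, mul_one]
    have hxD : (x : G) ∈ D := hx
    have hzD : z ∈ D := mul_mem (mul_mem hxD (conj_mem hsD hxD)) (conj_mem hsD (conj_mem hsD hxD))
    have hzF : z ∉ F := fun hzF => hdef1 <| by
      have := (hq z (hDN hzD)).2 hzF
      rw [← this, hf, he, hdef, ← map_inv, ← map_mul, ← map_mul, ← map_mul, ← map_mul, ← map_mul,
        ← map_mul]
      rfl
    have hz1 : z ≠ 1 := fun e => hzF (e ▸ F.one_mem)
    obtain ⟨k, hk⟩ := (Nat.dvd_prime_pow h.prime).1 (orderOf_dvd_of_pow_eq_one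
      (show z ^ p ^ (hD ⟨z, hzD⟩).choose = 1 from congrArg Subtype.val (hD ⟨z, hzD⟩).choose_spec))
    have hk0 : k ≠ 0 := fun e => hz1 (orderOf_eq_one_iff.1 (by simp [hk.2, e]))
    have hpz : p ∣ orderOf ((x : G) * s) :=
      (dvd_pow_self p hk0).trans (hk.2 ▸ hz3 ▸ orderOf_pow_dvd 3)
    have h2p := orderOf_dvd_iff_pow_eq_one.1 (h.pp _ hpz)
    by_cases hp3 : p = 3
    · subst hp3
      have : z ^ 2 = 1 := by rw [← hz3, ← pow_mul]; exact h2p
      refine hz1 (orderOf_eq_one_iff.1 ?_)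
      have h1 := Nat.Coprime.eq_one_of_dvd (Nat.Coprime.coprime_dvd_left
        (orderOf_dvd_of_pow_eq_one this) ((Nat.coprime_pow_right_iff (Nat.pos_of_ne_zero hk0) 2 3).2
          (by norm_num))) hk.2.dvd
      exact h1
    -- `s` would lie in `D`
    have hq2 : q S ^ (2 * p) ∈ M := by
      have h1 : (⟨x.1 * s, mul_mem x.2 hsD⟩ : N) ^ (2 * p) = 1 := Subtype.ext h2p
      have h2 : (d * q S) ^ (2 * p) = 1 := by
        rw [hdef, ← map_mul, ← map_pow]
        exact (congrArg q (show (x * S) ^ (2 * p) = 1 from h1)).trans (map_one q)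
      have : ∀ n : ℕ, ∃ m ∈ M, (d * q S) ^ n = m * q S ^ n := by
        intro n
        induction n with
        | zero => exact ⟨1, M.one_mem, by simp⟩
        | succ n ih =>
          obtain ⟨m, hm, e⟩ := ih
          refine ⟨m * (q (S ^ n) * d * (q (S ^ n))⁻¹), mul_mem hm (hMn _ d hd), ?_⟩
          rw [pow_succ, e, map_pow, pow_succ]; group
      obtain ⟨m, hm, e⟩ := this (2 * p)
      rw [h2] at e
      exact (inv_eq_of_mul_eq_one_right e.symm) ▸ M.inv_mem hm
    obtain ⟨j, hj⟩ := hMp _ hq2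
    have hS3 : q S ^ 3 = 1 := by
      rw [← map_pow, show S ^ 3 = 1 from Subtype.ext (hs ▸ pow_orderOf_eq_one s), map_one]
    rw [← pow_mul] at hj
    have hcop : (2 * p * p ^ j).Coprime 3 := by
      have h3 : p.Coprime 3 := (Nat.coprime_primes h.prime Nat.prime_three).2 hp3
      exact Nat.Coprime.mul_left (Nat.Coprime.mul_left (by norm_num) h3) (h3.pow_left j)
    have hS1 : q S = 1 := orderOf_eq_one_iff.1 (Nat.eq_one_of_dvd_coprimes hcop
      (orderOf_dvd_of_pow_eq_one hj) (orderOf_dvd_of_pow_eq_one hS3))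
    have hsF : s ∈ F := (hq s hsD).1 hS1
    obtain ⟨i, hi⟩ := hD ⟨s, hFD hsF⟩
    have := Nat.eq_one_of_dvd_coprimes
      (((Nat.coprime_primes h.prime Nat.prime_three).2 hp3).pow_left i)
      (orderOf_dvd_of_pow_eq_one (show s ^ p ^ i = 1 from congrArg Subtype.val hi)) (hs ▸ dvd_rfl)
    omega
  -- every involution centralises `D` modulo `F`
  have hu0 : ∀ m ∈ M, q U * m * (q U)⁻¹ = m := by
    intro m hm
    set a := q U * m * (q U)⁻¹ * m⁻¹ with ha
    have haM : a ∈ M := mul_mem (hMn U m hm) (M.inv_mem hm)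
    have hau : q U * a * (q U)⁻¹ = a⁻¹ := by
      rw [ha, hUi]
      calc q U * (q U * m * q U * m⁻¹) * q U = q U * q U * m * q U * m⁻¹ * q U := by group
        _ = m * q U * m⁻¹ * q U := by rw [hUU, one_mul]
        _ = _ := by rw [mul_inv_rev, mul_inv_rev, mul_inv_rev, inv_inv, hUi]; group
    set b := q T * a * (q T)⁻¹ with hb
    have hbM : b ∈ M := hMn T a haM
    have hbu : q U * b * (q U)⁻¹ = b⁻¹ := by
      rw [hb]
      calc q U * (q T * a * (q T)⁻¹) * (q U)⁻¹ = (q U * q T) * a * (q U * q T)⁻¹ := by group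
        _ = (q T * q U) * a * (q T * q U)⁻¹ := by rw [hTU.eq]
        _ = q T * (q U * a * (q U)⁻¹) * (q T)⁻¹ := by group
        _ = _ := by rw [hau]; group
    have hbt : q T * b * (q T)⁻¹ = a := by
      rw [hb, hTi, ← mul_assoc, ← mul_assoc, hTT, one_mul, mul_assoc, hTT, mul_one]
    have h1 : a * b = 1 := by
      refine key _ (mul_mem haM hbM) ?_ ?_
      · rw [show q T * (a * b) * (q T)⁻¹ = q T * a * (q T)⁻¹ * (q T * b * (q T)⁻¹) by group, ← hb,
          hbt, (hMc b hbM a haM).eq]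
      · rw [show q U * (a * b) * (q U)⁻¹ = q U * a * (q U)⁻¹ * (q U * b * (q U)⁻¹) by group, hau,
          hbu]
        exact ((hMc a haM b hbM).inv_inv.eq).trans (mul_inv_rev a b).symm
    -- so `a` is fixed by `t u`
    have hbinv : b = a⁻¹ := (inv_eq_of_mul_eq_one_right h1).symm
    have ha1 : a = 1 := by
      have hat : q T * a * (q T)⁻¹ = a⁻¹ := hb ▸ hbinv
      set c := q S * a * (q S)⁻¹ with hc
      have hct : q T * c * (q T)⁻¹ = c := by
        rw [← hSTU, hc]
        calc q S * (q T * q U) * (q S)⁻¹ * (q S * a * (q S)⁻¹) * (q S * (q T * q U) * (q S)⁻¹)⁻¹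
            = q S * (q T * (q U * a * (q U)⁻¹) * (q T)⁻¹) * (q S)⁻¹ := by group
          _ = q S * (q T * a * (q T)⁻¹)⁻¹ * (q S)⁻¹ := by rw [hau]; group
          _ = _ := by rw [hat, inv_inv]
      have hcu : q U * c * (q U)⁻¹ = c⁻¹ := by
        rw [← hST, hc]
        calc q S * q T * (q S)⁻¹ * (q S * a * (q S)⁻¹) * (q S * q T * (q S)⁻¹)⁻¹
            = q S * (q T * a * (q T)⁻¹) * (q S)⁻¹ := by group
          _ = _ := by rw [hat]; group
      have := key c (hMn S a haM) hct hcu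
      rw [hc] at this
      simpa using this
    exact mul_inv_eq_one.1 ha1
  have hconj : ∀ w w' : N ⧸ FN, (∀ m ∈ M, w * m * w⁻¹ = m) → w' = q S * w * (q S)⁻¹ →
      ∀ m ∈ M, w' * m * w'⁻¹ = m := by
    rintro w w' hw rfl m hm
    calc q S * w * (q S)⁻¹ * m * (q S * w * (q S)⁻¹)⁻¹
        = q S * (w * ((q S)⁻¹ * m * q S) * w⁻¹) * (q S)⁻¹ := by group
      _ = q S * ((q S)⁻¹ * m * q S) * (q S)⁻¹ := by
          rw [hw _ (by simpa using hMn S⁻¹ m hm)]
      _ = m := by group
  have hv0 := hconj _ _ hu0 hSU.symm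
  have ht0 := hconj _ _ hv0 hSTU.symm
  intro a ha k hk
  have hkM : q ⟨k, hDN hk⟩ ∈ M := ⟨⟨k, hDN hk⟩, hk, rfl⟩
  rw [← hq _ (mul_mem (mul_mem (mul_mem (hVD ha) (hDN hk)) (inv_mem (hVD ha))) (inv_mem (hDN hk)))]
  show q (⟨a, hVD ha⟩ * ⟨k, hDN hk⟩ * ⟨a, hVD ha⟩⁻¹ * ⟨k, hDN hk⟩⁻¹) = 1
  simp only [map_mul, map_inv]
  rw [mul_inv_eq_one]
  by_cases ha1 : a = 1
  · subst ha1
    rw [show (⟨1, hVD ha⟩ : N) = 1 from rfl, map_one]; simp
  rcases klein_cases V ht hu ht1 hu1 htu ha ha1 with rfl | rfl | rfl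
  · exact ht0 _ hkM
  · exact hu0 _ hkM
  · have := hv0 _ hkM
    rwa [← map_mul] at this

/-- A subgroup containing the Sylow four-group with trivial automiser has an odd normal complement. -/
theorem exists_complement (V : Sylow 2 G) [IsKleinFour (V : Subgroup G)] {K : Subgroup G}
    (hVK : (V : Subgroup G) ≤ K)
    (hauto : ∀ g ∈ K, g ∈ normalizer ((V : Subgroup G) : Set G) →
      g ∈ centralizer ((V : Subgroup G) : Set G)) :
    ∃ N : Subgroup G, N ≤ K ∧ K ≤ normalizer (N : Set G) ∧ Odd (Nat.card N) ∧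
      K ≤ N ⊔ (V : Subgroup G) ∧ ∀ R : Subgroup G, R ≤ K → Odd (Nat.card R) → R ≤ N := by
  haveI : Fact (Nat.Prime 2) := ⟨Nat.prime_two⟩
  let P : Sylow 2 K := V.subtype hVK
  have hP : normalizer ((P : Subgroup K) : Set K) ≤ centralizer ((P : Subgroup K) : Set K) := by
    intro g hg x hx
    refine Subtype.ext (hauto g g.2 (Coprime.mem_normalizer_of_forall fun y hy => ?_) x hx)
    exact (mem_normalizer_iff.1 hg ⟨y, hVK hy⟩).1 hy
  obtain ⟨φ, hcomp, hnd⟩ : ∃ φ : K →* (P : Subgroup K),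
      φ.ker.IsComplement' (P : Subgroup K) ∧ ¬ 2 ∣ Nat.card φ.ker :=
    ⟨_, MonoidHom.ker_transferSylow_isComplement' P hP, MonoidHom.not_dvd_card_ker_transferSylow P hP⟩
  have hodd : Odd (Nat.card φ.ker) := Nat.not_even_iff_odd.1 fun he => hnd (even_iff_two_dvd.1 he)
  refine ⟨φ.ker.map K.subtype, map_subtype_le _, ?_, by rwa [Cores.card_map_subtype], ?_, ?_⟩
  · intro g hg
    refine Coprime.mem_normalizer_of_forall ?_
    rintro _ ⟨y, hy, rfl⟩
    exact ⟨⟨g, hg⟩ * y * ⟨g, hg⟩⁻¹, (MonoidHom.normal_ker φ).conj_mem y hy _, rfl⟩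
  · refine le_of_eq ?_
    rw [show (V : Subgroup G) = (P : Subgroup K).map K.subtype from
        (subgroupOf_map_subtype _ _).trans (inf_eq_left.2 hVK) |>.symm,
      ← Subgroup.map_sup, hcomp.sup_eq_top, ← MonoidHom.range_eq_map, Subgroup.range_subtype]
  · intro R hRK hR x hx
    refine ⟨⟨x, hRK hx⟩, ?_, rfl⟩
    rw [SetLike.mem_coe, MonoidHom.mem_ker, ← orderOf_eq_one_iff]
    have h4 : φ ⟨x, hRK hx⟩ ^ 2 = 1 := by
      refine Subtype.ext (Subtype.ext ?_)
      rw [pow_two]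
      exact (klein_facts (V : Subgroup G) (φ ⟨x, hRK hx⟩).2 (φ ⟨x, hRK hx⟩).2).2
    have hdvd : orderOf (⟨x, hRK hx⟩ : K) ∣ Nat.card R := by
      rw [Subgroup.orderOf_mk]
      exact Subgroup.orderOf_mk x hx ▸ orderOf_dvd_natCard (⟨x, hx⟩ : R)
    exact Nat.eq_one_of_dvd_coprimes (Nat.coprime_two_left.2 (hR.of_dvd_nat hdvd)).symm
      (orderOf_map_dvd φ _) (orderOf_dvd_of_pow_eq_one h4)

/-- An element of `N(V)` not centralising `V` has a power of order three permuting the involutions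
cyclically. -/
theorem Hyp.exists_three (h : Hyp G p) (V : Sylow 2 G) [IsKleinFour (V : Subgroup G)] {g : G}
    (hg : g ∈ normalizer ((V : Subgroup G) : Set G))
    (hgc : g ∉ centralizer ((V : Subgroup G) : Set G)) :
    ∃ s ∈ zpowers g, orderOf s = 3 ∧ s ∈ normalizer ((V : Subgroup G) : Set G) ∧
      ∃ t u : G, t ∈ V ∧ u ∈ V ∧ t ≠ 1 ∧ u ≠ 1 ∧ t ≠ u ∧ s * t * s⁻¹ = u ∧ s * u * s⁻¹ = t * u := by
  haveI : Fact (Nat.Prime 2) := ⟨Nat.prime_two⟩
  set W : Subgroup G := (V : Subgroup G)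
  -- the automorphism induced by `g` has odd order
  obtain ⟨t, ht, hmove⟩ : ∃ t ∈ W, g * t * g⁻¹ ≠ t := by
    by_contra hcon
    push Not at hcon
    exact hgc fun t ht => (mul_inv_eq_iff_eq_mul.1 (hcon t ht)).symm
  have ht1 : t ≠ 1 := fun e => hmove (by simp [e])
  obtain ⟨a, m, hm, hgm⟩ := Nat.exists_eq_pow_mul_and_not_dvd (orderOf_pos g).ne' 2 (by norm_num)
  have hg2 : g ^ m ∈ W := by
    have hsy : IsPGroup 2 (zpowers (g ^ m)) := by
      refine IsPGroup.of_card (n := a) ?_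
      rw [Nat.card_zpowers, orderOf_pow' g (fun e => hm (by simp [e])), hgm,
        Nat.gcd_mul_left_left, Nat.mul_div_cancel _ (Nat.pos_of_ne_zero fun e => hm (by simp [e]))]
    have hn : zpowers (g ^ m) ≤ normalizer (W : Set G) := zpowers_le.2 (pow_mem hg m)
    have hsup : IsPGroup 2 ↥(zpowers (g ^ m) ⊔ W) := hsy.to_sup_of_normal_right' V.2 hn
    have he : zpowers (g ^ m) ⊔ W = W := V.3 hsup le_sup_right
    exact he.le (mem_sup_left (mem_zpowers _))
  -- hence some power of order a power of three moves `t`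
  have hperm : ∀ k : ℕ, g ^ k * t * (g ^ k)⁻¹ ∈ W := fun k => conj_mem (pow_mem hg k) ht
  have hfixm : g ^ m * t * (g ^ m)⁻¹ = t := by
    rw [(klein_facts W hg2 ht).1, mul_inv_cancel_right]
  have h3 : g ^ 3 * t * (g ^ 3)⁻¹ = t := by
    set t1 := g * t * g⁻¹ with ht1'
    set t2 := g * t1 * g⁻¹ with ht2'
    have e2 : g ^ 2 * t * (g ^ 2)⁻¹ = t2 := by rw [ht2', ht1', pow_two]; group
    have e3 : g ^ 3 * t * (g ^ 3)⁻¹ = g * t2 * g⁻¹ := by rw [ht2', ht1', pow_succ', pow_two]; group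
    have ht1W : t1 ∈ W := conj_mem hg ht
    have ht2W : t2 ∈ W := conj_mem hg ht1W
    have ht11 : t1 ≠ 1 := fun e => ht1 (conj_eq_one_iff.1 e)
    have ht21 : t2 ≠ 1 := fun e => ht11 (conj_eq_one_iff.1 e)
    have ht22 : t2 ≠ t1 := fun e => hmove (conj_injective (x := g) e)
    by_cases h20 : t2 = t
    · -- a transposition contradicts the odd order
      exfalso
      have he : ∀ k : ℕ, g ^ (2 * k + 1) * t * (g ^ (2 * k + 1))⁻¹ = t1 := by
        intro k
        induction k with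
        | zero => simp [ht1']
        | succ k ih =>
          have : g ^ (2 * (k + 1) + 1) * t * (g ^ (2 * (k + 1) + 1))⁻¹ =
              g ^ (2 * k + 1) * (g ^ 2 * t * (g ^ 2)⁻¹) * (g ^ (2 * k + 1))⁻¹ := by
            rw [show 2 * (k + 1) + 1 = (2 * k + 1) + 2 by ring, pow_add]; group
          rw [this, e2, h20, ih]
      obtain ⟨k, hk⟩ := Nat.not_even_iff_odd.1 (fun e => hm (even_iff_two_dvd.1 e))
      exact hmove ((he k).symm.trans (hk ▸ hfixm) |>.symm ▸ rfl)
    · rw [e3]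
      set t3 := g * t2 * g⁻¹ with ht3'
      have ht3W : t3 ∈ W := conj_mem hg ht2W
      rcases klein_cases W ht ht1W ht1 ht11 (Ne.symm hmove) ht3W
          (fun e => ht21 (conj_eq_one_iff.1 e)) with e | e | e
      · exact e
      · exact absurd (conj_injective (x := g) e) h20
      · rcases klein_cases W ht ht1W ht1 ht11 (Ne.symm hmove) ht2W ht21 with e' | e' | e'
        · exact absurd e' h20
        · exact absurd e' ht22
        · exact absurd (conj_injective (x := g) (e.trans e'.symm)).symm (fun e'' => ht22 e''.symm)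
  -- the three part of `g`
  obtain ⟨b, n, hn3, hgn⟩ := Nat.exists_eq_pow_mul_and_not_dvd (orderOf_pos g).ne' 3 (by norm_num)
  set s := g ^ n with hs
  have hstm : s * t * s⁻¹ ≠ t := by
    intro e
    refine hmove ?_
    let Cst : Subgroup G :=
      { carrier := {x | x * t * x⁻¹ = t}
        one_mem' := by simp
        mul_mem' := fun {x y} hx hy => by
          show x * y * t * (x * y)⁻¹ = t
          rw [show x * y * t * (x * y)⁻¹ = x * (y * t * y⁻¹) * x⁻¹ by group]
          rw [show y * t * y⁻¹ = t from hy]; exact hx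
        inv_mem' := fun {x} hx => by
          show x⁻¹ * t * x⁻¹⁻¹ = t
          nth_rewrite 1 [← show x * t * x⁻¹ = t from hx]
          group }
    have hgcd := Nat.gcd_eq_gcd_ab n 3
    rw [show Nat.gcd n 3 = 1 from (Nat.prime_three.coprime_iff_not_dvd.2 hn3).symm] at hgcd
    have : g ∈ Cst := by
      have h1 : g = (g ^ n) ^ Nat.gcdA n 3 * (g ^ 3) ^ Nat.gcdB n 3 := by
        rw [← zpow_natCast g n, ← zpow_natCast g 3, ← zpow_mul, ← zpow_mul, ← zpow_add, ← hgcd]
        simp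
      rw [h1]
      exact mul_mem (Cst.zpow_mem e _) (Cst.zpow_mem h3 _)
    exact this
  have hsN : s ∈ normalizer (W : Set G) := pow_mem hg n
  have hso : orderOf s = 3 ^ b := by
    rw [orderOf_pow' g (fun e => hn3 (by simp [e])), hgn, Nat.gcd_mul_left_left,
      Nat.mul_div_cancel _ (Nat.pos_of_ne_zero fun e => hn3 (by simp [e]))]
  have hb0 : b ≠ 0 := fun e => hstm (by
    have : s = 1 := orderOf_eq_one_iff.1 (by simp [hso, e])
    simp [this])
  have hs3t : s ^ 3 * t * (s ^ 3)⁻¹ = t := by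
    rw [hs, ← pow_mul, mul_comm n 3, pow_mul]
    clear hstm hso hgn hn3 hs hsN s
    induction n with
    | zero => simp
    | succ k ih =>
      rw [pow_succ, show (g ^ 3) ^ k * g ^ 3 * t * ((g ^ 3) ^ k * g ^ 3)⁻¹ =
        (g ^ 3) ^ k * (g ^ 3 * t * (g ^ 3)⁻¹) * ((g ^ 3) ^ k)⁻¹ by group, h3]
      exact ih
  have hs3 : orderOf s = 3 := by
    have hc : Commute (s ^ 3) t := mul_inv_eq_iff_eq_mul.1 hs3t
    by_cases h1 : s ^ 3 = 1
    · exact ((Nat.dvd_prime Nat.prime_three).1 (orderOf_dvd_of_pow_eq_one h1)).resolve_left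
        fun e => hb0 (by simpa [hso] using e)
    exfalso
    obtain ⟨j, hj, hje⟩ := (Nat.dvd_prime_pow Nat.prime_three).1
      (hso ▸ orderOf_pow_dvd 3 : orderOf (s ^ 3) ∣ 3 ^ b)
    have hj0 : j ≠ 0 := fun e => h1 (orderOf_eq_one_iff.1 (by simp [hje, e]))
    have hord : orderOf (t * s ^ 3) = 2 * 3 ^ j := by
      rw [hc.symm.orderOf_mul_eq_mul_orderOf_of_coprime, klein_orderOf W ht ht1, hje]
      rw [klein_orderOf W ht ht1, hje]
      exact Nat.Coprime.pow_right j (by norm_num)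
    have h2 := Nat.dvd_of_mul_dvd_mul_left two_pos
      (hord ▸ h.two (t * s ^ 3) (hord ▸ dvd_mul_right 2 _))
    have hp3 : 3 = p :=
      (Nat.prime_dvd_prime_iff_eq Nat.prime_three h.prime).1 ((dvd_pow_self 3 hj0).trans h2)
    have h6 := h.pp s (hp3 ▸ hso ▸ dvd_pow_self 3 hb0)
    rw [← hp3, hso] at h6
    have hb1 : b ≤ 1 := (Nat.pow_dvd_pow_iff_le_right (show 1 < 3 by norm_num)).1
      (Nat.Coprime.dvd_of_dvd_mul_left (Nat.Coprime.pow_left b (by norm_num : Nat.Coprime 3 2)) h6)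
    refine h1 (orderOf_dvd_iff_pow_eq_one.1 (hso ▸ ?_))
    exact (Nat.pow_dvd_pow 3 hb1).trans (pow_one 3).dvd
  refine ⟨s, pow_mem (mem_zpowers g) n, hs3, hsN, t, s * t * s⁻¹, ht, conj_mem hsN ht, ht1,
    fun e => ht1 (conj_eq_one_iff.1 e), Ne.symm hstm, rfl, ?_⟩
  have h33 : s * (s * (s * t * s⁻¹) * s⁻¹) * s⁻¹ = t := by
    refine Eq.trans ?_ hs3t
    simp [pow_succ]; group
  rcases klein_cases W ht (conj_mem hsN ht) ht1 (fun e => ht1 (conj_eq_one_iff.1 e)) (Ne.symm hstm)
      (conj_mem hsN (conj_mem hsN ht)) (fun e => ht1 (conj_eq_one_iff.1 (conj_eq_one_iff.1 e)))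
    with e | e | e
  · exact absurd (by rw [e] at h33; exact h33) hstm
  · exact absurd (conj_injective (x := s) e) hstm
  · exact e

end Cfsg.Agent.OneEvenOrder
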