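import Cfsg.Agent.Lib.OneEvenOrder.Invariant
import Cfsg.Agent.Lib.Coprime.InvolutionEigen
import Cfsg.Agent.S0508

/-!
# Even element orders dividing `2p`, Klein four Sylow subgroup: conclusion

* `Hyp.inf_centralizer_eq_bot` : no element of the odd part `U` of `C(t)` centralises `V`
* `Hyp.psl_two_of_klein` : a simple group with this hypothesis is `PSL₂` of an odd order field
-/

set_option autoImplicit false
set_option linter.style.haveILetI false
set_option linter.unusedSectionVars false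

open scoped Pointwise commutatorElement IsMulCommutative

namespace Cfsg.Agent.OneEvenOrder

open Subgroup

variable {G : Type*} [Group G] [Finite G] {p : ℕ} (V : Sylow 2 G) [IsKleinFour (V : Subgroup G)]

/-- `V` centralises an invariant `p`-subgroup of `C(W)` for non-trivial `W ≤ U ∩ C(V)`. -/
theorem Hyp.centralizes_in_centralizer (h : Hyp G p) {s t u : G}
    (hc : Cyc (V : Subgroup G) s t u) {W : Subgroup G} (hW1 : W ≠ ⊥) (hWp : IsPGroup p W)
    (hWV : (V : Subgroup G) ≤ centralizer (W : Set G)) (hsW : s ∈ normalizer (W : Set G))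
    {U : Subgroup G} (hUV : (V : Subgroup G) ≤ normalizer (U : Set G)) (hU : IsPGroup p U)
    (hUC : U ≤ centralizer (W : Set G)) : (V : Subgroup G) ≤ centralizer (U : Set G) := by
  haveI := Fact.mk h.prime
  haveI : Fact (Nat.Prime 2) := ⟨Nat.prime_two⟩
  set C := centralizer (W : Set G) with hC
  -- `C` is a `{2, p}`-group
  obtain ⟨y, hy, hy1⟩ : ∃ y ∈ W, y ≠ 1 := by
    by_contra hcon
    push Not at hcon
    exact hW1 ((eq_bot_iff_forall _).2 hcon)
  haveI : Group.IsSolvable C := by
    refine ItoSizes.isSolvable_of_two_primes Nat.prime_two h.prime fun r hr hd => ?_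
    haveI := Fact.mk hr
    obtain ⟨c, hcr⟩ := exists_prime_orderOf_dvd_card' r hd
    by_contra hne
    push Not at hne
    obtain ⟨k, hk⟩ := (Nat.dvd_prime_pow h.prime).1 (orderOf_dvd_of_pow_eq_one
      (show y ^ p ^ (hWp ⟨y, hy⟩).choose = 1 from congrArg Subtype.val (hWp ⟨y, hy⟩).choose_spec))
    have hk0 : k ≠ 0 := fun e => hy1 (orderOf_eq_one_iff.1 (by simp [hk.2, e]))
    have hcy : Commute (c : G) y := (c.2 y hy).symm
    have hord : orderOf ((c : G) * y) = r * p ^ k := by
      rw [hcy.orderOf_mul_eq_mul_orderOf_of_coprime, orderOf_coe, hcr, hk.2]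
      rw [orderOf_coe, hcr, hk.2]
      exact Nat.Coprime.pow_right k ((Nat.coprime_primes hr h.prime).2 hne.2)
    have h2 := h.pp _ (hord ▸ (dvd_pow_self p hk0).trans (dvd_mul_left _ r))
    rw [hord] at h2
    rcases hr.dvd_mul.1 ((dvd_mul_right r _).trans h2) with h3 | h3
    · exact hne.1 ((Nat.prime_dvd_prime_iff_eq hr Nat.prime_two).1 h3)
    · exact hne.2 ((Nat.prime_dvd_prime_iff_eq hr h.prime).1 h3)
  -- its odd core is centralised by `V`
  set R := (Cfsg.pPrimeCore 2 C).map C.subtype with hR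
  haveI : (Cfsg.pPrimeCore 2 C).Characteristic := Cores.pPrimeCore_characteristic 2 C
  have hn : normalizer (C : Set G) ≤ normalizer (R : Set G) := Cores.normalizer_le_normalizer_map _
  have hnC : normalizer (W : Set G) ≤ normalizer (C : Set G) := fun g hg => by
    refine Coprime.mem_normalizer_of_forall fun x hx => mem_centralizer_iff.2 fun w hw => ?_
    have h1 := mem_centralizer_iff.1 hx _ ((mem_normalizer_iff''.1 hg w).1 hw)
    calc w * (g * x * g⁻¹) = g * (g⁻¹ * w * g * x) * g⁻¹ := by group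
      _ = g * (x * (g⁻¹ * w * g)) * g⁻¹ := by rw [h1]
      _ = _ := by group
  have hVR : (V : Subgroup G) ≤ normalizer (R : Set G) :=
    hWV.trans (Subgroup.le_normalizer.trans hn)
  have hRodd : Odd (Nat.card R) := by
    rw [hR, Cores.card_map_subtype, Nat.odd_iff, ← Nat.two_dvd_ne_zero]
    exact Cores.not_dvd_card_pPrimeCore
  have hRV : (V : Subgroup G) ≤ centralizer (R : Set G) :=
    h.le_centralizer_of_three _ hc.memL hc.memR hc.neL hc.neR hc.ne hc.order hc.mapL hc.mapR
      (h.isPGroup_of_invariant _ hVR hRodd) hVR (hn (hnC hsW))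
  -- modulo it `V` is normal
  set f := QuotientGroup.mk' (Cfsg.pPrimeCore 2 C) with hf
  let V' : Sylow 2 C := V.subtype hWV
  set V₁ := (V' : Subgroup C).map f with hV₁
  have hZ : Cfsg.pCore 2 (C ⧸ Cfsg.pPrimeCore 2 C) ≤ V₁ :=
    Cores.pCore_le_sylow (V'.mapSurjective (QuotientGroup.mk'_surjective _))
  have hV₁Z : V₁ ≤ Cfsg.pCore 2 (C ⧸ Cfsg.pPrimeCore 2 C) := by
    refine le_trans ?_ (Solvable.centralizer_pCore_le (Solvable.isPiSeparable_of_isSolvable _)
      (Cores.pPrimeCore_quotient_self 2))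
    rintro _ ⟨a, ha, rfl⟩
    refine mem_centralizer_iff.2 fun z hz => ?_
    obtain ⟨b, hb, rfl⟩ := hZ hz
    rw [← map_mul, ← map_mul, show b * a = a * b from
      Subtype.ext (klein_facts (V : Subgroup G) hb ha).1]
  intro v hv x hx
  have hodd := h.odd_card hU
  set k := v * x * v⁻¹ * x⁻¹ with hk
  have hkU : k ∈ U := U.mul_mem (conj_mem (hUV hv) hx) (U.inv_mem hx)
  have hkR : k ∈ R := by
    refine ⟨⟨k, hUC hkU⟩, (QuotientGroup.eq_one_iff _).1 ?_, rfl⟩
    change f ⟨k, hUC hkU⟩ = 1
    set a : C := ⟨v, hWV hv⟩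
    set b : C := ⟨x, hUC hx⟩
    rw [show (⟨k, hUC hkU⟩ : C) = a * b * a⁻¹ * b⁻¹ from Subtype.ext rfl]
    have ha : f a ∈ Cfsg.pCore 2 (C ⧸ Cfsg.pPrimeCore 2 C) := hV₁Z ⟨a, hv, rfl⟩
    have h1 : f (a * b * a⁻¹ * b⁻¹) ∈ V₁ := by
      refine hZ ?_
      rw [show a * b * a⁻¹ * b⁻¹ = a * (b * a⁻¹ * b⁻¹) by group, map_mul]
      refine mul_mem ha ?_
      rw [map_mul, map_mul, map_inv, map_inv]
      exact (Cores.pCore_normal 2 _).conj_mem _ (inv_mem ha) _
    obtain ⟨c, hcV, hce⟩ := h1
    rw [← orderOf_eq_one_iff]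
    refine Nat.eq_one_of_dvd_coprimes ((Nat.coprime_two_left.2 hodd).symm) ?_ ?_
    · refine (orderOf_map_dvd f _).trans ?_
      rw [← orderOf_coe (a * b * a⁻¹ * b⁻¹)]
      exact orderOf_coe (⟨k, hkU⟩ : U) ▸ orderOf_dvd_natCard _
    · refine orderOf_dvd_of_pow_eq_one ?_
      rw [← hce, ← map_pow, pow_two,
        show c * c = 1 from Subtype.ext (klein_facts (V : Subgroup G) hcV hcV).2, map_one]
  -- so `v` both fixes and inverts `k`
  have hvv : v * v = 1 := (klein_facts (V : Subgroup G) hv hv).2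
  have hvi : v⁻¹ = v := inv_eq_of_mul_eq_one_right hvv
  have h1 : v * k * v⁻¹ = k := mul_inv_eq_iff_eq_mul.2 (hRV hv k hkR).symm
  have h2 : v * k * v⁻¹ = k⁻¹ := by
    rw [hk, mul_inv_rev, mul_inv_rev, mul_inv_rev, inv_inv, inv_inv, hvi]
    calc v * (v * x * v * x⁻¹) * v = v * v * x * v * x⁻¹ * v := by group
      _ = _ := by rw [hvv]; group
  have h3 : k = 1 := by
    obtain ⟨j, hj⟩ := hodd.of_dvd_nat (orderOf_coe (⟨k, hkU⟩ : U) ▸ orderOf_dvd_natCard _ :
      orderOf k ∣ Nat.card U)
    have h4 : k * k = 1 := mul_eq_one_iff_eq_inv.2 (h1.symm.trans h2)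
    have h5 := pow_orderOf_eq_one k
    rwa [hj, pow_add, pow_mul, pow_two, h4, one_pow, one_mul, pow_one] at h5
  rw [hk, mul_inv_eq_one, mul_inv_eq_iff_eq_mul] at h3
  exact h3.symm

variable [IsSimpleGroup G]

/-- Some element of order three permutes the involutions of `V`. -/
theorem Hyp.exists_cyc (h : Hyp G p) : ∃ s t u : G, Cyc (V : Subgroup G) s t u := by
  obtain ⟨g, hg, hgc⟩ : ∃ g ∈ normalizer ((V : Subgroup G) : Set G),
      g ∉ centralizer ((V : Subgroup G) : Set G) := by
    by_contra hcon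
    push Not at hcon
    obtain ⟨N, -, hn, hodd, hsup, -⟩ := exists_complement V (K := ⊤) le_top fun g _ => hcon g
    haveI : N.Normal := normalizer_eq_top_iff.1 (top_le_iff.1 hn)
    have h4 : Nat.card (V : Subgroup G) = 4 := IsKleinFour.card_four
    rcases IsSimpleGroup.eq_bot_or_eq_top_of_normal N inferInstance with rfl | rfl
    · rw [bot_sup_eq] at hsup
      obtain ⟨t, ht, ht1⟩ : ∃ t ∈ (V : Subgroup G), t ≠ 1 := by
        by_contra hc
        push Not at hc
        rw [(eq_bot_iff_forall _).2 hc, card_bot] at h4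
        omega
      haveI : (zpowers t).Normal := ⟨fun x hx g => by
        have hxV : x ∈ (V : Subgroup G) := zpowers_le.2 ht hx
        rwa [(klein_facts (V : Subgroup G) (hsup (mem_top g)) hxV).1, mul_inv_cancel_right]⟩
      rcases IsSimpleGroup.eq_bot_or_eq_top_of_normal (zpowers t) inferInstance with e | e
      · exact ht1 (zpowers_eq_bot.1 e)
      · have h2 := Nat.card_zpowers t
        have h5 : Nat.card (V : Subgroup G) ≤ Nat.card (zpowers t) :=
          card_le_of_le (le_top.trans e.ge)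
        rw [klein_orderOf (V : Subgroup G) ht ht1] at h2
        omega
    · have h6 := card_subgroup_dvd_card (V : Subgroup G)
      rw [h4] at h6
      rw [card_top] at hodd
      exact Nat.not_even_iff_odd.2 hodd (even_iff_two_dvd.2 ((dvd_mul_right 2 2).trans h6))
  obtain ⟨s, -, hs, hsN, t, u, ht, hu, ht1, hu1, htu, hst, hsu⟩ := h.exists_three V hg hgc
  exact ⟨s, t, u, ⟨ht, hu, ht1, hu1, htu, hs, hsN, hst, hsu⟩⟩

/-- If `V` centralises `U` then `U` is trivial. -/
theorem Hyp.eq_bot_of_centralizes (h : Hyp G p) {s t u : G} (hc : Cyc (V : Subgroup G) s t u)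
    {U : Subgroup G} (hU : IsU (V : Subgroup G) p t U)
    (hV : (V : Subgroup G) ≤ centralizer (U : Set G)) : U = ⊥ := by
  haveI : Fact (Nat.Prime 2) := ⟨Nat.prime_two⟩
  have hVC := le_centralizer_of_mem (V : Subgroup G) hc.memL
  have hVcomm : centralizer ({t} : Set G) ≤ centralizer ((V : Subgroup G) : Set G) :=
    hU.sup.trans (sup_le (fun x hx => mem_centralizer_iff.2 fun v hv => (hV hv x hx).symm)
      fun x hx => mem_centralizer_iff.2 fun v hv => (klein_facts (V : Subgroup G) hv hx).1)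
  have hn : ((V : Subgroup G).subgroupOf (centralizer ({t} : Set G))).Normal :=
    ⟨fun a ha g => by
      have := mem_centralizer_iff.1 (hVcomm g.2) a ha
      show ((g : G) * a * (g : G)⁻¹) ∈ (V : Subgroup G)
      rw [← this, mul_inv_cancel_right]
      exact ha⟩
  have h1 := (KleinSimple.card_cent_eq_four (klein_orderOf (V : Subgroup G) hc.memL hc.neL) hVC
    inferInstance (fun hd => V.not_dvd_index (hd.trans (Dvd.intro _ (relIndex_mul_index hVC)))) hn).1
  have h2 : Nat.card U ∣ Nat.card (V : Subgroup G) := by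
    rw [IsKleinFour.card_four (G := (V : Subgroup G)), ← h1]
    exact card_dvd_of_le hU.le
  exact card_eq_one.1 (Nat.eq_one_of_dvd_coprimes (coprime_four (V : Subgroup G) (h.odd_card hU.pgroup)) h2
    dvd_rfl)

/-- No non-trivial element of `U` centralises `V`. -/
theorem Hyp.inf_centralizer_eq_bot (h : Hyp G p) {s t u : G} (hc : Cyc (V : Subgroup G) s t u)
    {U : Subgroup G} (hU : IsU (V : Subgroup G) p t U) :
    U ⊓ centralizer ((V : Subgroup G) : Set G) = ⊥ := by
  by_contra hW1
  haveI := Fact.mk h.prime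
  set W := U ⊓ centralizer ((V : Subgroup G) : Set G) with hW
  have hWV : (V : Subgroup G) ≤ centralizer (W : Set G) := fun v hv =>
    mem_centralizer_iff.2 fun w hw => (mem_centralizer_iff.1 hw.2 v hv).symm
  by_cases hne : (V : Subgroup G) ≤ centralizer (U : Set G)
  · exact hW1 (le_bot_iff.1 (inf_le_left.trans (h.eq_bot_of_centralizes V hc hU hne).le))
  have hUodd := h.odd_card hU.pgroup
  have hsW : s ∈ normalizer (W : Set G) := Coprime.mem_normalizer_of_forall fun x hx => by
    have hxV : s * x * s⁻¹ ∈ centralizer ((V : Subgroup G) : Set G) :=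
      mem_centralizer_iff.2 fun v hv => by
        have := mem_centralizer_iff.1 hx.2 _ ((mem_normalizer_iff''.1 hc.norm v).1 hv)
        calc v * (s * x * s⁻¹) = s * (s⁻¹ * v * s * x) * s⁻¹ := by group
          _ = s * (x * (s⁻¹ * v * s)) * s⁻¹ := by rw [this]
          _ = _ := by group
    refine ⟨hU.all (zpowers (s * x * s⁻¹)) (zpowers_le.2 (mem_centralizer_singleton_iff.2
      (mem_centralizer_iff.1 hxV t hc.memL).symm)) ?_ (mem_zpowers _), hxV⟩
    rw [Nat.card_zpowers, show s * x * s⁻¹ = MulAut.conj s x from rfl, MulEquiv.orderOf_eq,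
      ← Subgroup.orderOf_mk x hx.1]
    exact hUodd.of_dvd_nat (orderOf_dvd_natCard _)
  -- `N_U(W)` is centralised by `V`
  have hVn : (V : Subgroup G) ≤ normalizer (U : Set G) :=
    (le_centralizer_of_mem (V : Subgroup G) hc.memL).trans hU.norm
  set A := U ⊓ centralizer (W : Set G) with hA
  have hAV : (V : Subgroup G) ≤ centralizer (A : Set G) := by
    refine h.centralizes_in_centralizer V hc hW1 (hU.pgroup.to_le inf_le_left) hWV hsW ?_
      (hU.pgroup.to_le inf_le_left) inf_le_right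
    exact fun v hv => Coprime.mem_normalizer_of_forall fun x hx =>
      ⟨conj_mem (hVn hv) hx.1, (centralizer _).mul_mem ((centralizer _).mul_mem (hWV hv) hx.2)
        ((centralizer _).inv_mem (hWV hv))⟩
  have hEV : U ⊓ normalizer (W : Set G) ≤ W := by
    intro x hx
    refine ⟨hx.1, mem_centralizer_iff.2 fun v hv => ?_⟩
    have hvi : v⁻¹ = v := inv_eq_of_mul_eq_one_right (klein_facts (V : Subgroup G) hv hv).2
    set k := v * x * v⁻¹ * x⁻¹ with hk
    have hkA : k ∈ A := by
      refine ⟨U.mul_mem (conj_mem (hVn hv) hx.1) (U.inv_mem hx.1), ?_⟩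
      have h1 : x * v⁻¹ * x⁻¹ ∈ centralizer (W : Set G) := mem_centralizer_iff.2 fun w hw => by
        have := mem_centralizer_iff.1 (inv_mem (hWV hv) : v⁻¹ ∈ centralizer (W : Set G)) _
          ((mem_normalizer_iff''.1 hx.2 w).1 hw)
        calc w * (x * v⁻¹ * x⁻¹) = x * (x⁻¹ * w * x * v⁻¹) * x⁻¹ := by group
          _ = x * (v⁻¹ * (x⁻¹ * w * x)) * x⁻¹ := by rw [this]
          _ = _ := by group
      have := (centralizer (W : Set G)).mul_mem (hWV hv) h1
      rwa [show v * (x * v⁻¹ * x⁻¹) = k by rw [hk]; group] at this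
    have h1 : v * k * v⁻¹ = k := mul_inv_eq_iff_eq_mul.2 (hAV hv k hkA).symm
    have h2 : v * k * v⁻¹ = k⁻¹ := by
      rw [hk, mul_inv_rev, mul_inv_rev, mul_inv_rev, inv_inv, inv_inv, hvi]
      calc v * (v * x * v * x⁻¹) * v = v * v * x * v * x⁻¹ * v := by group
        _ = _ := by rw [(klein_facts (V : Subgroup G) hv hv).2]; group
    obtain ⟨j, hj⟩ := hUodd.of_dvd_nat (orderOf_coe (⟨k, hkA.1⟩ : U) ▸ orderOf_dvd_natCard _ :
      orderOf k ∣ Nat.card U)
    have h4 : k * k = 1 := mul_eq_one_iff_eq_inv.2 (h1.symm.trans h2)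
    have h5 := pow_orderOf_eq_one k
    rw [hj, pow_add, pow_mul, pow_two, h4, one_pow, one_mul, pow_one, hk, mul_inv_eq_one,
      mul_inv_eq_iff_eq_mul] at h5
    exact h5
  haveI : Group.IsNilpotent U := hU.pgroup.isNilpotent
  have hlt : W.subgroupOf U < ⊤ := lt_top_iff_ne_top.2 fun e =>
    hne fun v hv x hx => mem_centralizer_iff.1 ((subgroupOf_eq_top.1 e) hx).2 v hv |>.symm
  obtain ⟨x, hx, hxW⟩ := SetLike.exists_of_lt (Group.normalizerCondition_of_isNilpotent _ hlt)
  exact hxW (hEV ⟨x.2, Coprime.mem_normalizer_of_forall fun y hy =>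
    (mem_normalizer_iff.1 hx ⟨y, hy.1⟩).1 hy⟩)

include V in
/-- A simple group with the hypothesis and Klein four Sylow subgroups is `PSL₂`. -/
theorem Hyp.psl_two_of_klein (h : Hyp G p) :
    ∃ (F : Type) (_ : Field F) (_ : Fintype F), Odd (Fintype.card F) ∧
      Nonempty (G ≃* Matrix.ProjectiveSpecialLinearGroup (Fin 2) F) := by
  obtain ⟨s, t, u, hc⟩ := h.exists_cyc V
  obtain ⟨U, hU⟩ := h.exists_isU V hc.memL hc.neL
  have hVC := le_centralizer_of_mem (V : Subgroup G) hc.memL
  have hUodd := h.odd_card hU.pgroup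
  have hbot := h.inf_centralizer_eq_bot V hc hU
  -- `u` inverts `U`
  have hfix : ∀ x ∈ U, u * x * u⁻¹ = x → x = 1 := fun x hx hux => by
    refine (mem_bot (G := G)).1 (hbot ▸ (⟨hx, mem_centralizer_iff.2 fun v hv => ?_⟩ :
      x ∈ U ⊓ centralizer ((V : Subgroup G) : Set G)))
    have hct : Commute t x := (mem_centralizer_singleton_iff.1 (hU.le hx)).symm
    have hcu : Commute u x := mul_inv_eq_iff_eq_mul.1 hux
    by_cases hv1 : v = 1
    · subst hv1; simp
    rcases klein_cases (V : Subgroup G) hc.memL hc.memR hc.neL hc.neR hc.ne hv hv1 with rfl | rfl | rfl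
    · exact hct
    · exact hcu
    · exact (hct.mul_left hcu)
  have huU : ∀ x ∈ U, u * x * u⁻¹ ∈ U := fun x hx => conj_mem (hU.norm (hVC hc.memR)) hx
  have huu : u * u = 1 := (klein_facts (V : Subgroup G) hc.memR hc.memR).2
  have hinv : ∀ x ∈ U, u * x * u⁻¹ = x⁻¹ := fun x hx => by
    let f : U →* U :=
      { toFun := fun y => ⟨u * y * u⁻¹, huU y y.2⟩
        map_one' := Subtype.ext (by simp)
        map_mul' := fun a b => Subtype.ext (by simp only [Subgroup.coe_mul]; group) }
    have := InvolutionEigen.inverts_of_fpf f (fun y => Subtype.ext (by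
        show u * (u * y * u⁻¹) * u⁻¹ = y
        rw [show u * (u * (y : G) * u⁻¹) * u⁻¹ = u * u * y * (u * u)⁻¹ by group, huu]; simp))
      (fun y hy => Subtype.ext (hfix y y.2 (congrArg Subtype.val hy))) ⟨x, hx⟩
    exact congrArg Subtype.val this
  have hab : ∀ x ∈ U, ∀ y ∈ U, x * y = y * x := fun x hx y hy => by
    have h1 := hinv _ (mul_mem hx hy)
    rw [show u * (x * y) * u⁻¹ = u * x * u⁻¹ * (u * y * u⁻¹) by group, hinv x hx, hinv y hy] at h1
    calc x * y = ((x * y)⁻¹)⁻¹ := (inv_inv _).symm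
      _ = (x⁻¹ * y⁻¹)⁻¹ := by rw [h1]
      _ = _ := by group
  obtain ⟨e⟩ := IsKleinFour.nonempty_mulEquiv (G₁ := (V : Subgroup G)) (G₂ := DihedralGroup 2)
  refine S0508.result V 2 le_rfl ⟨e⟩ t (klein_orderOf (V : Subgroup G) hc.memL hc.neL) hc.memL
    (fun v hv => (klein_facts (V : Subgroup G) hv hc.memL).1) U ?_ ?_ ?_ ?_
  · haveI : (U.subgroupOf (centralizer ({t} : Set G))).Normal :=
      Cores.subgroupOf_normal_of_le_normalizer hU.norm
    refine le_antisymm ?_ ?_
    · intro x hx
      refine ⟨⟨x, hU.le hx⟩, Cores.le_pPrimeCore (N := U.subgroupOf (centralizer ({t} : Set G)))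
        inferInstance ?_ hx, rfl⟩
      rw [Cores.card_subgroupOf hU.le]
      exact (Nat.coprime_two_left.2 hUodd).symm
    · refine hU.all _ (map_subtype_le _) ?_
      rw [Cores.card_map_subtype, Nat.odd_iff, ← Nat.two_dvd_ne_zero]
      haveI : Fact (Nat.Prime 2) := ⟨Nat.prime_two⟩
      exact Cores.not_dvd_card_pPrimeCore
  · intro hU1
    have hnu : ∀ x, u * x * u⁻¹ = x⁻¹ → u * x = x * u → x ∈ U → x = 1 := fun x h1 h2 hx =>
      hfix x hx (mul_inv_eq_iff_eq_mul.2 h2)
    have heq : (V : Subgroup G) ⊓ centralizer (U : Set G) = zpowers t := by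
      refine le_antisymm ?_ (zpowers_le.2 ⟨hc.memL, mem_centralizer_iff.2 fun x hx =>
        mem_centralizer_singleton_iff.1 (hU.le hx)⟩)
      rintro v ⟨hv, hvU⟩
      by_cases hv1 : v = 1
      · exact hv1 ▸ one_mem _
      rcases klein_cases (V : Subgroup G) hc.memL hc.memR hc.neL hc.neR hc.ne hv hv1 with rfl | rfl | rfl
      · exact mem_zpowers _
      · exact absurd ((eq_bot_iff_forall _).2 fun x hx =>
          hnu x (hinv x hx) (mem_centralizer_iff.1 hvU x hx).symm hx) hU1
      · refine absurd ((eq_bot_iff_forall _).2 fun x hx => hnu x (hinv x hx) ?_ hx) hU1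
        have h1 : Commute x (t * u) := mem_centralizer_iff.1 hvU x hx
        have h2 : Commute x t := mem_centralizer_singleton_iff.1 (hU.le hx)
        have := (h2.inv_right.mul_right h1).eq.symm
        rwa [inv_mul_cancel_left] at this
    rw [heq]
    refine ⟨inferInstance, ?_⟩
    have h1 := ((zpowers t).subgroupOf (V : Subgroup G)).card_mul_index
    rw [Cores.card_subgroupOf (zpowers_le.2 hc.memL : zpowers t ≤ (V : Subgroup G)),
      Nat.card_zpowers, klein_orderOf (V : Subgroup G) hc.memL hc.neL, IsKleinFour.card_four] at h1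
    change ((zpowers t).subgroupOf (V : Subgroup G)).index = 2
    omega
  · intro v hv hvc x hx
    have htx : t * x * t⁻¹ = x := mul_inv_eq_iff_eq_mul.2
      (mem_centralizer_singleton_iff.1 (hU.le hx)).symm
    by_cases hv1 : v = 1
    · exact absurd (hv1 ▸ one_mem _) hvc
    rcases klein_cases (V : Subgroup G) hc.memL hc.memR hc.neL hc.neR hc.ne hv hv1 with rfl | rfl | rfl
    · exact absurd (mem_centralizer_iff.2 fun y hy => mem_centralizer_singleton_iff.1 (hU.le hy)) hvc
    · exact hinv x hx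
    · calc t * u * x * (t * u)⁻¹ = t * (u * x * u⁻¹) * t⁻¹ := by group
        _ = (t * x * t⁻¹)⁻¹ := by rw [hinv x hx]; group
        _ = _ := by rw [htx]
  · intro Y hY hY1
    have hU1 : U ≠ ⊥ := fun e => hY1 (le_bot_iff.1 (hY.trans e.le))
    have hmax := h.isU_max V hc hU fun hcon => hU1 (le_bot_iff.1 fun x hx => hbot ▸
      ⟨hx, mem_centralizer_iff.2 fun v hv => (hcon hv x hx).symm⟩)
    have hVY : (V : Subgroup G) ≤ normalizer (Y : Set G) := fun v hv => by
      refine Coprime.mem_normalizer_of_forall fun y hy => ?_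
      have hty : t * y * t⁻¹ = y := mul_inv_eq_iff_eq_mul.2
        (mem_centralizer_singleton_iff.1 (hU.le (hY hy))).symm
      by_cases hv1 : v = 1
      · subst hv1; simpa using hy
      rcases klein_cases (V : Subgroup G) hc.memL hc.memR hc.neL hc.neR hc.ne hv hv1 with rfl | rfl | rfl
      · rw [hty]; exact hy
      · rw [hinv y (hY hy)]; exact Y.inv_mem hy
      · rw [show t * u * y * (t * u)⁻¹ = t * (u * y * u⁻¹) * t⁻¹ by group, hinv y (hY hy),
          show t * y⁻¹ * t⁻¹ = (t * y * t⁻¹)⁻¹ by group, hty]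
        exact Y.inv_mem hy
    obtain ⟨Q, hQ, hQV, hsup, hall⟩ := h.exists_big V (hU.pgroup.to_le hY) hVY fun hcon =>
      hY1 ((eq_bot_iff_forall _).2 fun y hy => (mem_bot (G := G)).1 (hbot ▸
        ⟨hY hy, mem_centralizer_iff.2 fun v hv => (hcon hv y hy).symm⟩))
    have hUY : U ≤ normalizer (Y : Set G) := fun x hx => Coprime.mem_normalizer_of_forall fun y hy => by
      rw [hab x hx y (hY hy), mul_inv_cancel_right]; exact hy
    rw [hmax.max Q hQ hQV (hall U hUY hUodd)] at hsup
    exact hsup.trans (sup_le hU.le hVC)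

end Cfsg.Agent.OneEvenOrder
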