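import Cfsg.Agent.Lib.OneEvenOrder.Basic
import Cfsg.Agent.Lib.ItoSizes.Tools
import Cfsg.Agent.Lib.HallHigman.PSolvable
import Cfsg.Agent.Lib.ZStar.KleinSimple

/-!
# Even element orders dividing `2p`, Klein four Sylow subgroup: invariant subgroups

* `Hyp.exists_big` : an invariant `p`-subgroup not centralised by the four-group has an invariant
  `p`-group containing every odd order subgroup of its normaliser
* `Hyp.eq_of_meet` : maximal invariant `p`-subgroups sharing an element outside `C(V)` are equal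
* `IsU`, `Hyp.exists_isU` : the odd part of the centralizer of an involution of `V`
* `Hyp.isU_max` : it is maximal invariant unless centralised by `V`
-/

set_option autoImplicit false
set_option linter.style.haveILetI false
set_option linter.unusedSectionVars false

open scoped Pointwise commutatorElement IsMulCommutative

namespace Cfsg.Agent.OneEvenOrder

open Subgroup

variable {G : Type*} [Group G] [Finite G] {p : ℕ}

/-- `s` of order three permutes the involutions `a`, `b`, `a b` of `V` cyclically. -/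
structure Cyc (V : Subgroup G) (s a b : G) : Prop where
  memL : a ∈ V
  memR : b ∈ V
  neL : a ≠ 1
  neR : b ≠ 1
  ne : a ≠ b
  order : orderOf s = 3
  norm : s ∈ normalizer (V : Set G)
  mapL : s * a * s⁻¹ = b
  mapR : s * b * s⁻¹ = a * b

theorem Cyc.rot {V : Subgroup G} [IsKleinFour V] {s a b : G} (h : Cyc V s a b) :
    Cyc V s b (a * b) where
  memL := h.memR
  memR := V.mul_mem h.memL h.memR
  neL := h.neR
  neR e := h.ne ((mul_eq_one_iff_eq_inv.1 e).trans
    (inv_eq_of_mul_eq_one_right (klein_facts V h.memR h.memR).2))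
  ne e := h.neL (right_eq_mul.1 e)
  order := h.order
  norm := h.norm
  mapL := h.mapR
  mapR := by
    rw [show s * (a * b) * s⁻¹ = s * a * s⁻¹ * (s * b * s⁻¹) by group, h.mapL, h.mapR]

/-- A maximal invariant `p`-subgroup. -/
structure MaxInv (V : Subgroup G) (p : ℕ) (P : Subgroup G) : Prop where
  pgroup : IsPGroup p P
  inv : V ≤ normalizer (P : Set G)
  max : ∀ Q : Subgroup G, IsPGroup p Q → V ≤ normalizer (Q : Set G) → P ≤ Q → Q = P

theorem exists_maxInv (V : Subgroup G) {Q : Subgroup G} (hQ : IsPGroup p Q)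
    (hV : V ≤ normalizer (Q : Set G)) : ∃ P, MaxInv V p P ∧ Q ≤ P := by
  obtain ⟨P, hP, hmax⟩ := Set.Finite.exists_maximalFor (fun R : Subgroup G => Nat.card R)
    {R | IsPGroup p R ∧ V ≤ normalizer (R : Set G) ∧ Q ≤ R} (Set.toFinite _) ⟨Q, hQ, hV, le_rfl⟩
  refine ⟨P, ⟨hP.1, hP.2.1, fun R hR hRV hPR => ?_⟩, hP.2.2⟩
  exact (eq_of_le_of_card_ge hPR (hmax ⟨hR, hRV, hP.2.2.trans hPR⟩ (card_le_of_le hPR))).symm

theorem MaxInv.map_conj {V P : Subgroup G} (h : MaxInv V p P) {s : G}
    (hs : s ∈ normalizer (V : Set G)) : MaxInv V p (P.map (MulAut.conj s).toMonoidHom) := by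
  have key : ∀ (σ : G), σ ∈ normalizer (V : Set G) → ∀ R : Subgroup G,
      V ≤ normalizer (R : Set G) → V ≤ normalizer ((R.map (MulAut.conj σ).toMonoidHom : Subgroup G) : Set G) := by
    intro σ hσ R hR v hv
    refine Coprime.mem_normalizer_of_forall ?_
    rintro _ ⟨x, hx, rfl⟩
    refine ⟨(σ⁻¹ * v * σ) * x * (σ⁻¹ * v * σ)⁻¹,
      conj_mem (hR ((mem_normalizer_iff''.1 hσ v).1 hv)) hx, ?_⟩
    show σ * _ * σ⁻¹ = v * (σ * x * σ⁻¹) * v⁻¹
    group
  refine ⟨h.pgroup.map _, key s hs P h.inv, fun Q hQ hQV hle => ?_⟩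
  have h1 : Q.map (MulAut.conj s⁻¹).toMonoidHom = P := by
    refine h.max _ (hQ.map _) (key _ (inv_mem hs) Q hQV) fun x hx => ?_
    exact ⟨s * x * s⁻¹, hle ⟨x, hx, rfl⟩, by simp [mul_assoc]⟩
  rw [← h1]
  ext x
  constructor
  · intro hx
    exact ⟨s⁻¹ * x * s, ⟨x, hx, by simp⟩, by simp [mul_assoc]⟩
  · rintro ⟨_, ⟨y, hy, rfl⟩, rfl⟩
    simpa [mul_assoc] using hy

variable (V : Sylow 2 G) [IsKleinFour (V : Subgroup G)]

/-- The normaliser of an invariant `p`-subgroup not centralised by `V`. -/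
theorem Hyp.exists_big (h : Hyp G p) {D : Subgroup G} (hD : IsPGroup p D)
    (hVD : (V : Subgroup G) ≤ normalizer (D : Set G))
    (hnc : ¬ (V : Subgroup G) ≤ centralizer (D : Set G)) :
    ∃ Q : Subgroup G, IsPGroup p Q ∧ (V : Subgroup G) ≤ normalizer (Q : Set G) ∧
      normalizer (D : Set G) ≤ Q ⊔ (V : Subgroup G) ∧
      ∀ R ≤ normalizer (D : Set G), Odd (Nat.card R) → R ≤ Q := by
  obtain ⟨Q, -, hn, hodd, hsup, hall⟩ := exists_complement V hVD fun g hgD hgN => by
    by_contra hgc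
    obtain ⟨s, hs, hs3, -, t, u, ht, hu, ht1, hu1, htu, hst, hsu⟩ := h.exists_three V hgN hgc
    exact hnc (h.le_centralizer_of_three _ ht hu ht1 hu1 htu hs3 hst hsu hD hVD
      ((zpowers_le (H := normalizer (D : Set G))).2 hgD hs))
  exact ⟨Q, h.isPGroup_of_invariant _ (hVD.trans hn) hodd, hVD.trans hn, hsup, hall⟩

/-- Maximal invariant `p`-subgroups meeting outside `C(V)` are equal. -/
theorem Hyp.eq_of_meet (h : Hyp G p) {P P' : Subgroup G} (hP : MaxInv (V : Subgroup G) p P)
    (hP' : MaxInv (V : Subgroup G) p P') (hne : ¬ (V : Subgroup G) ≤ centralizer ((P ⊓ P' : Subgroup G) : Set G)) :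
    P = P' := by
  haveI := Fact.mk h.prime
  suffices ∀ n : ℕ, ∀ P P' : Subgroup G, MaxInv (V : Subgroup G) p P → MaxInv (V : Subgroup G) p P' →
      ¬ (V : Subgroup G) ≤ centralizer ((P ⊓ P' : Subgroup G) : Set G) →
      Nat.card G ≤ Nat.card (P ⊓ P' : Subgroup G) + n → P = P' from
    this (Nat.card G) P P' hP hP' hne (Nat.le_add_left _ _)
  intro n
  induction n with
  | zero =>
    intro P P' hP hP' _ hn
    rw [add_zero] at hn
    have htop : P ⊓ P' = ⊤ := eq_of_le_of_card_ge le_top (card_top (G := G) ▸ hn)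
    rw [inf_eq_top_iff] at htop
    rw [htop.1, htop.2]
  | succ n ih =>
    intro P P' hP hP' hne hn
    set D := P ⊓ P' with hD
    have hDp : IsPGroup p D := hP.pgroup.to_le inf_le_left
    have hVD : (V : Subgroup G) ≤ normalizer (D : Set G) := fun v hv =>
      Coprime.mem_normalizer_of_forall fun x hx =>
        ⟨conj_mem (hP.inv hv) hx.1, conj_mem (hP'.inv hv) hx.2⟩
    obtain ⟨Q, hQp, hQV, -, hall⟩ := h.exists_big V hDp hVD hne
    obtain ⟨P'', hP'', hQ⟩ := exists_maxInv (V : Subgroup G) hQp hQV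
    have step : ∀ R : Subgroup G, MaxInv (V : Subgroup G) p R → D ≤ R → D ≠ R → R = P'' := by
      intro R hR hDR hDR'
      haveI : Group.IsNilpotent R := hR.pgroup.isNilpotent
      have h1 : R ⊓ normalizer (D : Set G) ≤ P'' :=
        (hall _ inf_le_right ((h.odd_card hR.pgroup).of_dvd_nat (card_dvd_of_le inf_le_left))).trans hQ
      have hlt : D.subgroupOf R < ⊤ := lt_top_iff_ne_top.2 fun e =>
        hDR' (le_antisymm hDR (subgroupOf_eq_top.1 e))
      obtain ⟨x, hx, hxD⟩ := SetLike.exists_of_lt (Group.normalizerCondition_of_isNilpotent _ hlt)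
      have hxN : (x : G) ∈ normalizer (D : Set G) := Coprime.mem_normalizer_of_forall fun y hy =>
        (mem_normalizer_iff.1 hx ⟨y, hDR hy⟩).1 hy
      have hle : D ≤ R ⊓ P'' := le_inf hDR ((le_inf hDR le_normalizer).trans h1)
      refine ih R P'' hR hP'' (fun e => hne fun v hv y hy => e hv y (hle hy)) ?_
      have hlt' : D < R ⊓ P'' := lt_of_le_of_ne hle fun e =>
        hxD (show (x : G) ∈ D from e ▸ ⟨x.2, h1 ⟨x.2, hxN⟩⟩)
      have : Nat.card D < Nat.card (R ⊓ P'' : Subgroup G) :=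
        lt_of_not_ge fun hge => hlt'.ne (eq_of_le_of_card_ge hlt'.le hge)
      omega
    by_cases hDP : D = P
    · exact (hP.max P' hP'.pgroup hP'.inv (hDP ▸ inf_le_right)).symm
    by_cases hDP' : D = P'
    · exact hP'.max P hP.pgroup hP.inv (hDP' ▸ inf_le_left)
    exact (step P hP inf_le_left hDP).trans (step P' hP' inf_le_right hDP').symm

/-- `U` is the odd part of the centralizer of the involution `a` of `V`. -/
structure IsU (V : Subgroup G) (p : ℕ) (a : G) (U : Subgroup G) : Prop where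
  le : U ≤ centralizer ({a} : Set G)
  norm : centralizer ({a} : Set G) ≤ normalizer (U : Set G)
  pgroup : IsPGroup p U
  sup : centralizer ({a} : Set G) ≤ U ⊔ V
  all : ∀ R : Subgroup G, R ≤ centralizer ({a} : Set G) → Odd (Nat.card R) → R ≤ U

omit [Finite G] in
theorem le_centralizer_of_mem (V : Subgroup G) [IsKleinFour V] {a : G} (ha : a ∈ V) :
    V ≤ centralizer ({a} : Set G) := fun _ hv =>
  mem_centralizer_singleton_iff.2 (klein_facts V hv ha).1

theorem Hyp.exists_isU (h : Hyp G p) {a : G} (ha : a ∈ (V : Subgroup G)) (ha1 : a ≠ 1) :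
    ∃ U, IsU (V : Subgroup G) p a U := by
  have hVC := le_centralizer_of_mem (V : Subgroup G) ha
  obtain ⟨U, hle, hn, hodd, hsup, hall⟩ := exists_complement V hVC fun g hgC hgN => by
    by_contra hgc
    obtain ⟨s, hs, -, -, t, u, ht, hu, ht1, hu1, htu, hst, hsu⟩ := h.exists_three V hgN hgc
    have hfix : s * a * s⁻¹ = a := mul_inv_eq_iff_eq_mul.2
      (mem_centralizer_singleton_iff.1 ((zpowers_le (H := centralizer ({a} : Set G))).2 hgC hs))
    rcases klein_cases (V : Subgroup G) ht hu ht1 hu1 htu ha ha1 with rfl | rfl | rfl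
    · exact htu (hfix.symm.trans hst)
    · exact ht1 (mul_eq_right.1 (hsu.symm.trans hfix))
    · rw [show s * (t * u) * s⁻¹ = s * t * s⁻¹ * (s * u * s⁻¹) by group, hst, hsu] at hfix
      exact hu1 (mul_eq_right.1 hfix)
  exact ⟨U, hle, hn, h.isPGroup_of_invariant _ (hVC.trans hn) hodd, hsup, hall⟩

theorem IsU.map_conj {V : Subgroup G} {a b s : G} {U : Subgroup G} (hU : IsU V p a U)
    (hs : s ∈ normalizer (V : Set G)) (hb : s * a * s⁻¹ = b) :
    IsU V p b (U.map (MulAut.conj s).toMonoidHom) := by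
  have hC : ∀ x : G, x ∈ centralizer ({b} : Set G) ↔ s⁻¹ * x * s ∈ centralizer ({a} : Set G) := by
    intro x
    rw [mem_centralizer_singleton_iff, mem_centralizer_singleton_iff, ← hb]
    constructor
    · intro e
      calc s⁻¹ * x * s * a = s⁻¹ * (x * (s * a * s⁻¹)) * s := by group
        _ = s⁻¹ * (s * a * s⁻¹ * x) * s := by rw [e]
        _ = _ := by group
    · intro e
      calc x * (s * a * s⁻¹) = s * (s⁻¹ * x * s * a) * s⁻¹ := by group
        _ = s * (a * (s⁻¹ * x * s)) * s⁻¹ := by rw [e]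
        _ = _ := by group
  refine ⟨?_, ?_, hU.pgroup.map _, ?_, fun R hR hodd x hx => ?_⟩
  · rintro _ ⟨x, hx, rfl⟩
    rw [hC]
    simpa [mul_assoc] using hU.le hx
  · intro c hc
    refine Coprime.mem_normalizer_of_forall ?_
    rintro _ ⟨x, hx, rfl⟩
    refine ⟨_, conj_mem (hU.norm ((hC c).1 hc)) hx, ?_⟩
    show s * _ * s⁻¹ = c * (s * x * s⁻¹) * c⁻¹
    group
  · intro c hc
    have h1 : s * (s⁻¹ * c * s) * s⁻¹ ∈ (U ⊔ V).map (MulAut.conj s).toMonoidHom :=
      ⟨_, hU.sup ((hC c).1 hc), rfl⟩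
    rw [show s * (s⁻¹ * c * s) * s⁻¹ = c by group, Subgroup.map_sup] at h1
    refine sup_le_sup_left (show V.map (MulAut.conj s).toMonoidHom ≤ V from ?_) _ h1
    rintro _ ⟨v, hv, rfl⟩
    exact conj_mem hs hv
  · refine ⟨s⁻¹ * x * s, hU.all (R.map (MulAut.conj s⁻¹).toMonoidHom) ?_ ?_
      ⟨x, hx, by simp⟩, by simp [mul_assoc]⟩
    · rintro _ ⟨y, hy, rfl⟩
      simpa using (hC y).1 (hR hy)
    · rwa [card_map_of_injective (MulAut.conj s⁻¹).injective]

/-- The odd part of the centralizer of an involution is maximal invariant, unless centralised by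
`V`. -/
theorem Hyp.isU_max (h : Hyp G p) {s t u : G} (hc : Cyc (V : Subgroup G) s t u) {U : Subgroup G}
    (hU : IsU (V : Subgroup G) p t U) (hne : ¬ (V : Subgroup G) ≤ centralizer (U : Set G)) :
    MaxInv (V : Subgroup G) p U := by
  have hVt := le_centralizer_of_mem (V : Subgroup G) hc.memL
  have hVn : (V : Subgroup G) ≤ normalizer (U : Set G) := hVt.trans hU.norm
  obtain ⟨P, hP, hUP⟩ := exists_maxInv (V : Subgroup G) hU.pgroup hVn
  suffices P ≤ U by rwa [le_antisymm hUP this]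
  have hPodd := h.odd_card hP.pgroup
  -- `s` does not normalise `P`
  have hsP : s ∉ normalizer (P : Set G) := fun hs => hne fun v hv x hx =>
    h.le_centralizer_of_three _ hc.memL hc.memR hc.neL hc.neR hc.ne hc.order hc.mapL hc.mapR
      hP.pgroup hP.inv hs hv x (hUP hx)
  have main : ∀ (σ a : G), σ ∈ normalizer ((V : Subgroup G) : Set G) → σ * t * σ⁻¹ = a →
      σ ∉ normalizer (P : Set G) → P ⊓ centralizer ({a} : Set G) ≤ U := by
    intro σ a hσ hσa hσP
    have hodd : Odd (Nat.card (P ⊓ centralizer ({a} : Set G) : Subgroup G)) :=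
      hPodd.of_dvd_nat (card_dvd_of_le inf_le_left)
    have hle : P ⊓ centralizer ({a} : Set G) ≤ P.map (MulAut.conj σ).toMonoidHom :=
      ((hU.map_conj hσ hσa).all _ inf_le_right hodd).trans (map_mono hUP)
    by_contra hnot
    have hcen : ¬ (V : Subgroup G) ≤
        centralizer ((P ⊓ P.map (MulAut.conj σ).toMonoidHom : Subgroup G) : Set G) := by
      refine fun hcon => hnot (hU.all _ (fun x hx => ?_) hodd)
      exact mem_centralizer_singleton_iff.2 (hcon hc.memL x ⟨hx.1, hle hx⟩)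
    have heq := h.eq_of_meet V hP (hP.map_conj hσ) hcen
    refine hσP (Coprime.mem_normalizer_of_forall fun x hx => ?_)
    exact heq ▸ ⟨x, hx, rfl⟩
  refine generate (V : Subgroup G) hP.inv hPodd fun a ha ha1 => ?_
  rcases klein_cases (V : Subgroup G) hc.memL hc.memR hc.neL hc.neR hc.ne ha ha1 with rfl | rfl | rfl
  · exact hU.all _ inf_le_right (hPodd.of_dvd_nat (card_dvd_of_le inf_le_left))
  · exact main s _ hc.norm hc.mapL hsP
  · refine main s⁻¹ _ (inv_mem hc.norm) ?_ fun e => hsP (inv_mem_iff.1 e)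
    have e : s * (t * u) * s⁻¹ = t := by
      rw [hc.rot.mapR, (klein_facts (V : Subgroup G) hc.memR ha).1, mul_assoc,
        (klein_facts (V : Subgroup G) hc.memR hc.memR).2, mul_one]
    calc s⁻¹ * t * s⁻¹⁻¹ = s⁻¹ * (s * (t * u) * s⁻¹) * s⁻¹⁻¹ := by rw [e]
      _ = t * u := by group

end Cfsg.Agent.OneEvenOrder
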