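import Cfsg.Agent.Lib.OneEvenOrder.Four
import Cfsg.Agent.Lib.CoreKilling.SolvableMain
import Cfsg.Agent.Lib.Bender.Consumers
import Cfsg.Agent.Lib.SuzukiRankOne.Kernel.Main
import Cfsg.Agent.Lib.PSL2.Basic
import Cfsg.Agent.S0018
import Cfsg.Agent.S2475

/-!
# Even element orders dividing `2p`

* `psl_two_of_strongly_embedded` : abelian Sylow 2-subgroup and a strongly embedded subgroup
* `Hyp.psl_two` : a simple group with `Hyp` and an element of order `2 p` is `PSL₂` in odd
  characteristic (given `Bender.RankOneHalf`)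
-/

set_option autoImplicit false
set_option linter.style.haveILetI false

open scoped Pointwise

namespace Cfsg.Agent.OneEvenOrder

open Subgroup

universe u

variable {G : Type u} [Group G] [Finite G] {p : ℕ}

/-- A simple group with abelian Sylow 2-subgroups and a strongly embedded subgroup. -/
theorem psl_two_of_strongly_embedded [IsSimpleGroup G] (hR : Bender.RankOneHalf.{u})
    (hab : ∀ S : Sylow 2 G, IsMulCommutative (S : Subgroup G)) {H : Subgroup G}
    (hH : Cfsg.IsStronglyEmbedded H) :
    ∃ (F : Type) (_ : Field F) (_ : Fintype F) (n : ℕ), 2 ≤ n ∧ Fintype.card F = 2 ^ n ∧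
      Nonempty (G ≃* Matrix.ProjectiveSpecialLinearGroup (Fin 2) F) := by
  have hcore := Bender.normalCore_of_simple hH
  have h2 := SuzukiRankOne.two_involutions_of_simple hH
  obtain ⟨t, Q, h⟩ := hR G H hH hcore h2
  haveI := Bender.faithful_of_normalCore hcore
  obtain ⟨-, ⟨S, hS⟩, -⟩ := Bender.sylow_normal h h2
  have hQ : IsMulCommutative Q := hS ▸ hab S
  obtain ⟨L, hL, hodd, F, _, _, ⟨n, hn, hF⟩, ⟨e⟩⟩ := SuzukiRankOne.elementary_case h h2
    ((SuzukiRankOne.kernelShape G _ _ t Q h h2).2 hQ)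
  obtain rfl : L = ⊤ := hL.eq_bot_or_eq_top.resolve_left fun e => by
    rw [e, Subgroup.index_bot] at hodd
    exact Nat.not_even_iff_odd.2 hodd (even_iff_two_dvd.2
      ((Involution.orderOf_of_sq h.mul_self h.ne_one) ▸ orderOf_dvd_natCard t))
  exact ⟨F, _, _, n, hn, hF, ⟨Subgroup.topEquiv.symm.trans e⟩⟩

omit [Finite G] in
/-- Elements of a 2-subgroup square to one. -/
theorem Hyp.sq_eq_one (h : Hyp G p) {T : Subgroup G} (hT : IsPGroup 2 T) {x : G} (hx : x ∈ T) :
    x * x = 1 := by
  obtain ⟨k, hk⟩ := hT ⟨x, hx⟩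
  have h1 : orderOf x ∣ 2 ^ k := orderOf_dvd_of_pow_eq_one (congrArg Subtype.val hk)
  obtain ⟨j, -, hj⟩ := (Nat.dvd_prime_pow Nat.prime_two).1 h1
  rcases Nat.eq_zero_or_pos j with rfl | hj0
  · rw [pow_zero, orderOf_eq_one_iff] at hj
    rw [hj, mul_one]
  have h2 := h.two x (hj ▸ dvd_pow_self 2 hj0.ne')
  have hcop : (2 ^ j).Coprime p := ((Nat.coprime_primes Nat.prime_two h.prime).2 h.odd.symm).pow_left j
  rw [hj] at h2
  have h3 : orderOf x ∣ 2 := hj ▸ hcop.dvd_of_dvd_mul_right h2
  rw [← pow_two]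
  exact orderOf_dvd_iff_pow_eq_one.1 h3

/-- The centralizer of an involution is soluble. -/
theorem Hyp.isSolvable_centralizer (h : Hyp G p) {t : G} (ht : orderOf t = 2) :
    Group.IsSolvable (centralizer ({t} : Set G)) := by
  refine ItoSizes.isSolvable_of_two_primes Nat.prime_two h.prime fun r hr hd => ?_
  haveI := Fact.mk hr
  obtain ⟨c, hcr⟩ := exists_prime_orderOf_dvd_card' r hd
  by_contra hne
  push Not at hne
  have hct : Commute t (c : G) := (mem_centralizer_singleton_iff.1 c.2).symm
  have hord : orderOf (t * (c : G)) = 2 * r := by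
    rw [hct.orderOf_mul_eq_mul_orderOf_of_coprime, orderOf_coe, hcr, ht]
    rw [orderOf_coe, hcr, ht]
    exact (Nat.coprime_primes Nat.prime_two hr).2 hne.1.symm
  have h2 := Nat.dvd_of_mul_dvd_mul_left two_pos (hord ▸ h.two _ (hord ▸ dvd_mul_right 2 r))
  exact hne.2 ((Nat.prime_dvd_prime_iff_eq hr h.prime).1 h2)

/-- Simple groups with `Hyp` and an element of order `2 p`. -/
theorem Hyp.psl_two [IsSimpleGroup G] (hR : Bender.RankOneHalf.{u}) (h : Hyp G p)
    (hx : ∃ x : G, orderOf x = 2 * p) :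
    ∃ (F : Type) (_ : Field F) (_ : Fintype F), Odd (Fintype.card F) ∧
      Nonempty (G ≃* Matrix.ProjectiveSpecialLinearGroup (Fin 2) F) := by
  haveI : Fact (Nat.Prime 2) := ⟨Nat.prime_two⟩
  obtain ⟨x, hx⟩ := hx
  have hab : ∀ S : Sylow 2 G, IsMulCommutative (S : Subgroup G) := fun S => ⟨⟨fun a b => Subtype.ext (by
    have ha := inv_eq_of_mul_eq_one_right (h.sq_eq_one S.2 a.2)
    have hb := inv_eq_of_mul_eq_one_right (h.sq_eq_one S.2 b.2)
    have hc := inv_eq_of_mul_eq_one_right (h.sq_eq_one S.2 (mul_mem a.2 b.2))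
    rw [mul_inv_rev, ha, hb] at hc
    exact hc.symm)⟩⟩
  -- no strongly embedded subgroup
  have noSE : ∀ H : Subgroup G, ¬ Cfsg.IsStronglyEmbedded H := by
    intro H hH
    obtain ⟨F, _, _, n, hn, hF, ⟨e⟩⟩ := psl_two_of_strongly_embedded hR hab hH
    haveI : CharP F 2 := charP_of_card_eq_prime_pow (f := n) hF
    have h4 : 4 ≤ Fintype.card F := hF ▸ Nat.pow_le_pow_right (show 0 < 2 by norm_num) hn
    have hmem : 2 * p ∈ Set.range (orderOf : Matrix.ProjectiveSpecialLinearGroup (Fin 2) F → ℕ) :=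
      ⟨e x, by rw [MulEquiv.orderOf_eq, hx]⟩
    rw [S2475.result 2 h4] at hmem
    have hodd : ∀ m, m ∣ Fintype.card F - 1 ∨ m ∣ Fintype.card F + 1 → ¬ 2 ∣ m := by
      rintro m (hm | hm) h2m <;> have := h2m.trans hm <;> rw [hF] at this <;>
        [skip; skip] <;> have h5 := dvd_pow_self 2 (show n ≠ 0 by omega) <;>
        have := Nat.one_le_two_pow (n := n) <;> omega
    rcases hmem with h1 | h1 | h1
    · have h6 := Nat.le_of_dvd two_pos h1
      have := h.prime.two_le
      omega
    · exact hodd _ (Or.inl (h1.trans (Nat.div_dvd_of_dvd (Nat.gcd_dvd_right _ _)))) (dvd_mul_right 2 p)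
    · refine hodd _ (Or.inr ?_) (dvd_mul_right 2 p)
      rwa [Nat.Coprime.gcd_eq_one, Nat.div_one] at h1
      refine (Nat.coprime_two_left).2 ?_
      rw [hF, Nat.odd_iff]
      have h5 := dvd_pow_self 2 (show n ≠ 0 by omega)
      have := Nat.one_le_two_pow (n := n)
      omega
  obtain ⟨S⟩ := (inferInstance : Nonempty (Sylow 2 G))
  obtain ⟨k, hk⟩ := S.2.exists_card_eq
  by_cases hk3 : 3 ≤ k
  · exfalso
    have hA3 : ¬ Cfsg.PRankLE 2 2 (S : Subgroup G) := fun hle => by
      have h1 := hle ⊤ ⟨⟨fun a b => mul_comm' a b⟩⟩ fun a _ => by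
        rw [pow_two]; exact Subtype.ext (h.sq_eq_one S.2 a.2)
      rw [card_top, hk] at h1
      have := Nat.pow_le_pow_right (show 0 < 2 by norm_num) hk3
      omega
    have hG1 : Cfsg.oddCore G = ⊥ := by
      refine ((Cores.pPrimeCore_normal 2 G).eq_bot_or_eq_top).resolve_right fun e => ?_
      have h1 := Cores.not_dvd_card_pPrimeCore (G := G) (p := 2)
      rw [show Cfsg.pPrimeCore 2 G = ⊤ from e, card_top] at h1
      exact h1 (dvd_trans (hk ▸ dvd_pow_self 2 (by omega)) (card_subgroup_dvd_card (S : Subgroup G)))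
    have hcore : ∀ t : G, orderOf t = 2 → Cfsg.centralizerPPrimeCore 2 t = ⊥ :=
      CoreKilling.core_eq_bot_of_solvable (fun H hH => absurd hH (noSE H)) hG1 S (S : Subgroup G)
        le_rfl (by rw [subgroupOf_self]; infer_instance) (hab S) hA3
        fun t ht => h.isSolvable_centralizer ht
    -- so involution centralisers normalise their Sylow subgroups
    have key : ∀ (R : Sylow 2 G) (t : G), orderOf t = 2 → t ∈ R →
        centralizer ({t} : Set G) ≤ normalizer ((R : Subgroup G) : Set G) := by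
      intro R t ht htR
      haveI := h.isSolvable_centralizer ht
      have hRC : (R : Subgroup G) ≤ centralizer ({t} : Set G) := fun r hr =>
        mem_centralizer_singleton_iff.2
          (congrArg Subtype.val ((hab R).is_comm.comm ⟨r, hr⟩ ⟨t, htR⟩))
      let R' : Sylow 2 (centralizer ({t} : Set G)) := R.subtype hRC
      have h1 := S0018.result 2 R' ⟨⟨fun a b => Subtype.ext (Subtype.ext (by
        have h5 := congrArg Subtype.val ((hab R).is_comm.comm ⟨a.1.1, a.2⟩ ⟨b.1.1, b.2⟩)
        exact h5))⟩⟩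
      have h0 : Cfsg.pPrimeCore 2 (centralizer ({t} : Set G)) = ⊥ :=
        (map_eq_bot_iff_of_injective _ (centralizer ({t} : Set G)).subtype_injective).1 (hcore t ht)
      rw [h0, sup_bot_eq] at h1
      intro c hc
      refine Coprime.mem_normalizer_of_forall fun r hr => ?_
      exact h1.conj_mem (⟨r, hRC hr⟩ : centralizer ({t} : Set G)) hr ⟨c, hc⟩
    refine noSE (normalizer ((S : Subgroup G) : Set G)) (Involution.isStronglyEmbedded_iff_forall.2 ⟨fun e => ?_, ?_, fun g t ht htH hgH => ?_⟩)
    · rcases (normalizer_eq_top_iff.1 e).eq_bot_or_eq_top with e' | e'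
      · rw [e', card_bot] at hk
        have := Nat.pow_le_pow_right (show 0 < 2 by norm_num) hk3
        omega
      · have h1 : orderOf x ∣ 2 ^ k := hk ▸ (Nat.card_congr (MulEquiv.subgroupCongr e').toEquiv |>.trans
          card_top).symm ▸ orderOf_dvd_natCard x
        rw [hx] at h1
        exact h.odd ((Nat.prime_dvd_prime_iff_eq h.prime Nat.prime_two).1
          (h.prime.dvd_of_dvd_pow ((dvd_mul_left p 2).trans h1)))
    · exact even_iff_two_dvd.2 ((hk ▸ dvd_pow_self 2 (by omega)).trans
        (card_dvd_of_le le_normalizer))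
    · -- an involution in two normalisers
      have mem : ∀ y ∈ normalizer ((S : Subgroup G) : Set G), orderOf y = 2 → y ∈ (S : Subgroup G) := by
        intro y hy hy2
        have hp2 : IsPGroup 2 (zpowers y) := IsPGroup.of_card (n := 1) (by rw [Nat.card_zpowers, hy2, pow_one])
        have hsup : IsPGroup 2 ↥(zpowers y ⊔ (S : Subgroup G)) :=
          hp2.to_sup_of_normal_right' S.2 (zpowers_le.2 hy)
        exact (S.3 hsup le_sup_right).le (mem_sup_left (mem_zpowers y))
      have ht' := mem t htH ht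
      have hgt' := mem _ hgH (by rw [show g * t * g⁻¹ = MulAut.conj g t from rfl, MulEquiv.orderOf_eq, ht])
      -- both `S` and `g S g⁻¹` lie in `C(g t g⁻¹)`
      let S' : Sylow 2 G := g • S
      have hmem' : g * t * g⁻¹ ∈ (S' : Subgroup G) := ⟨t, ht', rfl⟩
      have hord : orderOf (g * t * g⁻¹) = 2 := by
        rw [show g * t * g⁻¹ = MulAut.conj g t from rfl, MulEquiv.orderOf_eq, ht]
      have hle : (S' : Subgroup G) ≤ normalizer ((S : Subgroup G) : Set G) := by
        refine le_trans ?_ (key S _ hord hgt')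
        exact fun r hr => mem_centralizer_singleton_iff.2
          (congrArg Subtype.val ((hab S').is_comm.comm ⟨r, hr⟩ ⟨_, hmem'⟩))
      have hSS : (S' : Subgroup G) ≤ S := le_sup_left.trans
        (S.3 (S'.2.to_sup_of_normal_right' S.2 hle) le_sup_right).le
      exact Sylow.smul_eq_iff_mem_normalizer.1 (Sylow.ext (S'.3 S.2 hSS).symm)
  -- order at most four
  push Not at hk3
  interval_cases k
  · exfalso
    rw [pow_zero] at hk
    have := S.dvd_card_of_dvd_card (hx ▸ (dvd_mul_right 2 p).trans (dvd_refl _) |> fun h =>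
      h.trans (orderOf_dvd_natCard x))
    omega
  · exfalso
    rw [pow_one] at hk
    have hN : normalizer ((S : Subgroup G) : Set G) ≤ centralizer ((S : Subgroup G) : Set G) := by
      intro g hg
      refine mem_centralizer_iff.2 fun a ha => ?_
      by_cases ha1 : a = 1
      · subst ha1; simp
      have hb : g * a * g⁻¹ ∈ (S : Subgroup G) := conj_mem hg ha
      have huniq : ∀ b ∈ (S : Subgroup G), b ≠ 1 → b = a := fun b hb hb1 => by
        obtain ⟨z, -, hz⟩ := Nat.card_eq_two_iff' (1 : (S : Subgroup G)) |>.1 hk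
        exact congrArg Subtype.val ((hz ⟨b, hb⟩ fun e => hb1 (congrArg Subtype.val e)).trans
          (hz ⟨a, ha⟩ fun e => ha1 (congrArg Subtype.val e)).symm)
      exact (mul_inv_eq_iff_eq_mul.1 (huniq _ hb fun e => ha1 (conj_eq_one_iff.1 e))).symm
    have hcomp := MonoidHom.ker_transferSylow_isComplement' S hN
    have hnd := MonoidHom.not_dvd_card_ker_transferSylow S hN
    rcases (inferInstance : (MonoidHom.transferSylow S hN).ker.Normal).eq_bot_or_eq_top with e | e
    · have h1 := hcomp.card_mul_card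
      rw [e, card_bot, one_mul, hk] at h1
      have h2 : orderOf x ∣ 2 := h1 ▸ orderOf_dvd_natCard x
      rw [hx] at h2
      have := Nat.le_of_dvd two_pos h2
      have := h.prime.two_le
      omega
    · rw [e, card_top] at hnd
      exact hnd (hk ▸ card_subgroup_dvd_card (S : Subgroup G))
  · haveI : IsKleinFour (S : Subgroup G) := ⟨hk, by
      refine ((Nat.dvd_prime Nat.prime_two).1 (Monoid.exponent_dvd_of_forall_pow_eq_one fun a => by
        rw [pow_two]; exact Subtype.ext (h.sq_eq_one S.2 a.2))).resolve_left fun e => ?_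
      rw [Monoid.exp_eq_one_iff] at e
      rw [Nat.card_unique] at hk
      omega⟩
    exact h.psl_two_of_klein S

end Cfsg.Agent.OneEvenOrder
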